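import Mathlib
import Cfsg.Prelude.Def_GeometricClasses
import Cfsg.Agent.Lib.FormsDisc.Basic
import Cfsg.Agent.Lib.TensorForms.Basic
import Cfsg.Agent.Lib.LinFix.OrthCompat

/-!
Discriminants of quadratic spaces in odd characteristic: classification, plus type, and
non-degenerate subspaces of prescribed dimension and discriminant.
-/

set_option autoImplicit false

namespace CfsgLib.OrthDerange

open Module QuadraticMap

variable {F V V' : Type*} [Field F] [AddCommGroup V] [Module F V] [AddCommGroup V'] [Module F V']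

/-- A non-degenerate subspace. -/
def NDSub (Q : QuadraticForm F V) (W : Submodule F V) : Prop :=
  ∀ x ∈ W, (∀ y ∈ W, polarBilin Q x y = 0) → x = 0

theorem polar_subForm (Q : QuadraticForm F V) (W : Submodule F V) (x y : W) :
    polarBilin (Q.comp W.subtype) x y = polarBilin Q (x : V) y := by
  simp [polarBilin_apply_apply, polar, QuadraticMap.comp_apply]

theorem nondegenerate_of_left {Q : QuadraticForm F V}
    (h : ∀ x, (∀ y, polarBilin Q x y = 0) → x = 0) : (polarBilin Q).Nondegenerate :=
  ⟨fun x hx => h x hx, fun x hx => h x fun y => by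
    rw [polarBilin_apply_apply, polar_comm, ← polarBilin_apply_apply]; exact hx y⟩

theorem NDSub.nondegenerate {Q : QuadraticForm F V} {W : Submodule F V} (h : NDSub Q W) :
    (polarBilin (Q.comp W.subtype)).Nondegenerate :=
  nondegenerate_of_left fun x hx => Subtype.ext (h x x.2 fun y hy => by
    have := hx ⟨y, hy⟩
    rwa [polar_subForm] at this)

theorem NDSub.restrict {Q : QuadraticForm F V} {W : Submodule F V} (h : NDSub Q W) :
    (LinearMap.BilinForm.restrict (polarBilin Q) W).Nondegenerate := by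
  have h' := h.nondegenerate
  refine ⟨fun x hx => h'.1 x fun y => ?_, fun x hx => h'.2 x fun y => ?_⟩ <;>
    rw [polar_subForm]
  · exact hx y
  · exact hx y

theorem ndSub_top {Q : QuadraticForm F V} (h : (polarBilin Q).Nondegenerate) :
    NDSub Q ⊤ := fun x _ hx => h.1 x fun y => hx y Submodule.mem_top

theorem ndSub_of_geo {ι : Type} [Fintype ι] [DecidableEq ι] (Q : QuadraticForm F (ι → F))
    {W : Submodule F (ι → F)} (h : Cfsg.Geo.IsNondegenerateOn (QuadraticMap.polar ⇑Q) W) :
    NDSub Q W := fun x hx hxy => by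
  by_contra hne
  obtain ⟨-, y, hy, hyne⟩ := h x hx hne
  exact hyne (hxy y hy)

theorem geo_of_ndSub {ι : Type} [Fintype ι] [DecidableEq ι] (Q : QuadraticForm F (ι → F))
    {W : Submodule F (ι → F)} (h : NDSub Q W) :
    Cfsg.Geo.IsNondegenerateOn (QuadraticMap.polar ⇑Q) W := by
  intro w hw hne
  obtain ⟨y, hy, hyne⟩ : ∃ y ∈ W, polar (⇑Q) w y ≠ 0 := by
    by_contra hc
    push Not at hc
    exact hne (h w hw hc)
  exact ⟨⟨y, hy, by rwa [polar_comm]⟩, y, hy, hyne⟩

/-- The Gram determinant of the polar form in the standard basis of the space. -/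
noncomputable def disc [FiniteDimensional F V] (Q : QuadraticForm F V) : F :=
  (Matrix.of fun i j => polarBilin Q (finBasis F V i) (finBasis F V j)).det

theorem disc_eq [FiniteDimensional F V] (Q : QuadraticForm F V) {κ : Type*} [Fintype κ]
    [DecidableEq κ] (b : Basis κ F V) : ∃ d : F, d ≠ 0 ∧
      (Matrix.of fun i j => polarBilin Q (b i) (b j)).det = disc Q * d ^ 2 :=
  FormsDisc.gram_det_basis _ _ _

theorem disc_ne_zero [FiniteDimensional F V] {Q : QuadraticForm F V}
    (h : (polarBilin Q).Nondegenerate) : disc Q ≠ 0 := by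
  have he : (Matrix.of fun i j => polarBilin Q (finBasis F V i) (finBasis F V j)) =
      LinearMap.BilinForm.toMatrix (finBasis F V) (polarBilin Q) := by
    ext i j; simp [LinearMap.BilinForm.toMatrix_apply]
  rw [disc, he]
  exact (LinearMap.BilinForm.nondegenerate_iff_det_ne_zero _).1 h

theorem isSquare_toMatrix [FiniteDimensional F V] (Q : QuadraticForm F V) {κ : Type*} [Fintype κ]
    [DecidableEq κ] (b : Basis κ F V) (x : F) :
    IsSquare (x * (LinearMap.BilinForm.toMatrix b (polarBilin Q)).det) ↔ IsSquare (x * disc Q) := by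
  obtain ⟨d, hd, he⟩ := disc_eq Q b
  have hb : (Matrix.of fun i j => polarBilin Q (b i) (b j)) =
      LinearMap.BilinForm.toMatrix b (polarBilin Q) := by
    ext i j; simp [LinearMap.BilinForm.toMatrix_apply]
  rw [← hb, he, ← mul_assoc, FormsDisc.isSquare_mul_sq_iff hd]

variable [Fintype F]

/-- Spaces of equal dimension and discriminant class are isometric. -/
theorem exists_isometry [FiniteDimensional F V] [FiniteDimensional F V'] (h2 : (2 : F) ≠ 0)
    (Q₁ : QuadraticForm F V) (Q₂ : QuadraticForm F V') (h₁ : (polarBilin Q₁).Nondegenerate)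
    (h₂ : (polarBilin Q₂).Nondegenerate) (hdim : finrank F V = finrank F V')
    (hsq : IsSquare (disc Q₁ * disc Q₂)) : ∃ e : V ≃ₗ[F] V', ∀ x, Q₂ (e x) = Q₁ x := by
  let b₁ := finBasis F V
  let b₂ := (finBasis F V').reindex (finCongr hdim.symm)
  let R₁ : QuadraticForm F (Fin (finrank F V) → F) := Q₁.comp b₁.equivFun.symm.toLinearMap
  let R₂ : QuadraticForm F (Fin (finrank F V) → F) := Q₂.comp b₂.equivFun.symm.toLinearMap
  have hs₁ : ∀ i, b₁.equivFun.symm (Pi.single i 1) = b₁ i := fun i => by
    rw [Basis.equivFun_symm_apply]; simp [Pi.single_apply]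
  have hs₂ : ∀ i, b₂.equivFun.symm (Pi.single i 1) = b₂ i := fun i => by
    rw [Basis.equivFun_symm_apply]; simp [Pi.single_apply]
  have hp₁ : ∀ x y, polarBilin R₁ x y = polarBilin Q₁ (b₁.equivFun.symm x) (b₁.equivFun.symm y) :=
    fun x y => by simp only [polarBilin_apply_apply, polar, R₁, comp_apply, LinearEquiv.coe_coe, map_add]
  have hp₂ : ∀ x y, polarBilin R₂ x y = polarBilin Q₂ (b₂.equivFun.symm x) (b₂.equivFun.symm y) :=
    fun x y => by simp only [polarBilin_apply_apply, polar, R₂, comp_apply, LinearEquiv.coe_coe, map_add]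
  have hn₁ : (polarBilin R₁).Nondegenerate := nondegenerate_of_left fun x hx =>
    (LinearEquiv.map_eq_zero_iff _).1 (h₁.1 _ fun y => by
      have := hx (b₁.equivFun y); rwa [hp₁, LinearEquiv.symm_apply_apply] at this)
  have hn₂ : (polarBilin R₂).Nondegenerate := nondegenerate_of_left fun x hx =>
    (LinearEquiv.map_eq_zero_iff _).1 (h₂.1 _ fun y => by
      have := hx (b₂.equivFun y); rwa [hp₂, LinearEquiv.symm_apply_apply] at this)
  obtain ⟨φ⟩ := FormsDisc.equivalent_of_disc h2 R₁ R₂ hn₁ hn₂ (by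
    obtain ⟨d₁, hd₁, e₁⟩ := disc_eq Q₁ b₁
    obtain ⟨d₂, hd₂, e₂⟩ := disc_eq Q₂ b₂
    simp only [← polarBilin_apply_apply, hp₁, hp₂, hs₁, hs₂]
    rw [e₁, e₂, show disc Q₁ * d₁ ^ 2 * (disc Q₂ * d₂ ^ 2) = disc Q₁ * disc Q₂ * (d₁ * d₂) ^ 2 by ring]
    exact (FormsDisc.isSquare_mul_sq_iff (mul_ne_zero hd₁ hd₂)).2 hsq)
  refine ⟨(b₁.equivFun.trans φ.toLinearEquiv).trans b₂.equivFun.symm, fun x => ?_⟩
  have := φ.map_app (b₁.equivFun x)
  simp only [R₁, R₂, comp_apply, LinearEquiv.coe_coe, LinearEquiv.symm_apply_apply] at this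
  simpa using this

/-- In odd dimension the form is unique up to a scalar. -/
theorem exists_similarity [FiniteDimensional F V] [FiniteDimensional F V'] (h2 : (2 : F) ≠ 0)
    (Q₁ : QuadraticForm F V) (Q₂ : QuadraticForm F V') (h₁ : (polarBilin Q₁).Nondegenerate)
    (h₂ : (polarBilin Q₂).Nondegenerate) (hdim : finrank F V = finrank F V')
    (hodd : Odd (finrank F V)) :
    ∃ a : F, a ≠ 0 ∧ ∃ e : V ≃ₗ[F] V', ∀ x, Q₂ (e x) = a * Q₁ x := by
  let a := disc Q₁ * disc Q₂
  have ha : a ≠ 0 := mul_ne_zero (disc_ne_zero h₁) (disc_ne_zero h₂)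
  have hp : ∀ x y, polarBilin (a • Q₁) x y = a * polarBilin Q₁ x y := fun x y => by
    simp only [polarBilin_apply_apply, polar, smul_apply, smul_eq_mul]; ring
  have hnd : (polarBilin (a • Q₁)).Nondegenerate := nondegenerate_of_left fun x hx =>
    h₁.1 x fun y => by
      have := hx y
      rw [hp] at this
      exact (mul_eq_zero.1 this).resolve_left ha
  obtain ⟨e, he⟩ := exists_isometry h2 (a • Q₁) Q₂ hnd h₂ hdim (by
    have hdisc : disc (a • Q₁) = a ^ finrank F V * disc Q₁ := by
      rw [disc, disc]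
      have : (Matrix.of fun i j => polarBilin (a • Q₁) (finBasis F V i) (finBasis F V j)) =
          a • (Matrix.of fun i j => polarBilin Q₁ (finBasis F V i) (finBasis F V j)) := by
        ext i j; simp only [Matrix.of_apply, hp, Matrix.smul_apply, smul_eq_mul]
      rw [this, Matrix.det_smul, Fintype.card_fin]
    obtain ⟨k, hk⟩ := hodd
    rw [hdisc, hk]
    exact ⟨a ^ (k + 1), by simp only [a]; ring⟩)
  exact ⟨a, ha, e, fun x => by rw [he]; simp⟩

/-- Plus type of a non-degenerate subspace, by the discriminant. -/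
theorem isPlusTypeOn_iff {ι : Type} [Fintype ι] [DecidableEq ι] (h2 : (2 : F) ≠ 0)
    (Q : QuadraticForm F (ι → F)) {W : Submodule F (ι → F)} (hW : NDSub Q W) {k : ℕ}
    (hk : finrank F W = 2 * k) :
    Cfsg.Geo.IsPlusTypeOn ⇑Q W ↔ IsSquare ((-1 : F) ^ k * disc (Q.comp W.subtype)) := by
  have hS : LinearMap.BilinForm.IsSymm (polarBilin (Q.comp W.subtype)) := ⟨fun x y => by
    simp only [RingHom.id_apply, polarBilin_apply_apply]; exact polar_comm _ _ _⟩
  constructor
  · rintro ⟨U, hUW, hU, hUd⟩
    let X : Submodule F W := U.comap W.subtype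
    have hX : finrank F X = k := by
      rw [(Submodule.comapSubtypeEquivOfLe hUW).finrank_eq]; omega
    rw [← isSquare_toMatrix (Q.comp W.subtype) (finBasis F W)]
    exact TensorForms.isSquare_of_isotropic _ hS hk X hX (fun x hx y hy => by
      rw [polarBilin_apply_apply, polar, hU (W.subtype x) hx |> fun h => show (Q.comp W.subtype) x = 0 from h,
        show (Q.comp W.subtype) y = 0 from hU (W.subtype y) hy,
        show (Q.comp W.subtype) (x + y) = 0 from hU (W.subtype (x + y)) (X.add_mem hx hy)]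
      simp) _
  · intro h
    rw [← isSquare_toMatrix (Q.comp W.subtype) (finBasis F W)] at h
    obtain ⟨X, hXk, hX⟩ := TensorForms.exists_isotropic_of_isSquare h2 _ hW.nondegenerate hS hk _ h
    refine ⟨X.map W.subtype, Submodule.map_subtype_le _ _, ?_, ?_⟩
    · rintro _ ⟨x, hx, rfl⟩
      have := hX x hx x hx
      rw [polarBilin_apply_apply, polar_self, two_nsmul, ← two_mul] at this
      exact (mul_eq_zero.1 this).resolve_left h2
    · rw [Submodule.finrank_map_subtype_eq, hXk, hk]

/-- Orthogonal vectors with prescribed values in a larger non-degenerate subspace. -/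
theorem exists_orth_family [FiniteDimensional F V] (h2 : (2 : F) ≠ 0) (Q : QuadraticForm F V) :
    ∀ (e : ℕ) (W : Submodule F V), NDSub Q W → e < finrank F W → ∀ w : Fin e → F, (∀ i, w i ≠ 0) →
      ∃ v : Fin e → V, (∀ i, v i ∈ W) ∧ (∀ i, Q (v i) = w i) ∧
        ∀ i j, i ≠ j → polarBilin Q (v i) (v j) = 0 := by
  intro e
  induction e with
  | zero => intro W _ _ w _; exact ⟨Fin.elim0, fun i => i.elim0, fun i => i.elim0, fun i => i.elim0⟩
  | succ e ih =>
    intro W hW he w hw
    obtain ⟨u, hu, hQu⟩ := LinFix.OrthCompat.exists_value (Q := Q) h2 hW (by omega) (w 0)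
    obtain ⟨hW', hfin, -⟩ := LinFix.OrthCompat.split h2 hW hu (by rw [hQu]; exact hw 0)
    obtain ⟨v, hv, hvQ, hvo⟩ := ih _ hW' (by omega) (Fin.tail w) fun i => hw _
    have h0 : ∀ i, polarBilin Q u (v i) = 0 := fun i => LinearMap.mem_ker.1 (hv i).2
    refine ⟨Fin.cons u v, fun i => ?_, fun i => ?_, fun i j => ?_⟩
    · refine Fin.cases hu (fun i => ?_) i; simpa using (hv i).1
    · refine Fin.cases hQu (fun i => ?_) i; simpa [Fin.tail] using hvQ i
    · refine Fin.cases ?_ (fun i => ?_) i <;> refine Fin.cases ?_ (fun j => ?_) j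
      · intro h; exact absurd rfl h
      · intro _; simpa using h0 j
      · intro _
        simp only [Fin.cons_succ, Fin.cons_zero, polarBilin_apply_apply]
        rw [polar_comm]
        exact h0 i
      · intro h; simpa using hvo i j fun e => h (by rw [e])

/-- Non-degenerate subspaces of smaller dimension exist with either discriminant. -/
theorem exists_sub_disc [FiniteDimensional F V] (h2 : (2 : F) ≠ 0) (Q : QuadraticForm F V)
    {W : Submodule F V} (hW : NDSub Q W) {e : ℕ} (he0 : 0 < e) (he : e < finrank F W) {a : F}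
    (ha : a ≠ 0) :
    ∃ E ≤ W, finrank F E = e ∧ NDSub Q E ∧ IsSquare (a * disc (Q.comp E.subtype)) := by
  obtain ⟨e, rfl⟩ : ∃ e', e = e' + 1 := ⟨e - 1, by omega⟩
  let w : Fin (e + 1) → F := fun i => if i = 0 then a / 2 else 1 / 2
  have hw : ∀ i, w i ≠ 0 := fun i => by
    show (if i = 0 then a / 2 else 1 / 2) ≠ 0
    split_ifs <;> simp [ha, h2]
  obtain ⟨v, hv, hvQ, hvo⟩ := exists_orth_family h2 Q _ W hW he w hw
  have hvv : ∀ i, polarBilin Q (v i) (v i) = 2 * w i := fun i => by
    rw [polarBilin_apply_apply, polar_self, hvQ, two_nsmul, two_mul]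
  have hG : ∀ (l : Fin (e + 1) → F) i, polarBilin Q (v i) (∑ j, l j • v j) = l i * (2 * w i) := by
    intro l i
    rw [map_sum, Finset.sum_eq_single i]
    · rw [map_smul, hvv, smul_eq_mul]
    · intro j _ hj; rw [map_smul, hvo i j (Ne.symm hj), smul_zero]
    · simp
  have hli : LinearIndependent F v := Fintype.linearIndependent_iff.2 fun l hl i => by
    have := hG l i
    rw [hl, map_zero, eq_comm] at this
    exact (mul_eq_zero.1 this).resolve_right (mul_ne_zero h2 (hw i))
  let E := Submodule.span F (Set.range v)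
  have hE : E ≤ W := Submodule.span_le.2 (by rintro _ ⟨i, rfl⟩; exact hv i)
  let b : Basis (Fin (e + 1)) F E := Basis.span hli
  have hb : ∀ i, (b i : V) = v i := fun i => congrArg Subtype.val (Basis.span_apply hli i)
  refine ⟨E, hE, ?_, ?_, ?_⟩
  · rw [finrank_eq_card_basis b, Fintype.card_fin]
  · intro x hx hxy
    obtain ⟨l, rfl⟩ := (Submodule.mem_span_range_iff_exists_fun F).1 hx
    refine Finset.sum_eq_zero fun i _ => ?_
    have h := hxy (v i) (Submodule.subset_span ⟨i, rfl⟩)
    rw [polarBilin_apply_apply, polar_comm, ← polarBilin_apply_apply, hG] at h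
    rw [(mul_eq_zero.1 h).resolve_right (mul_ne_zero h2 (hw i)), zero_smul]
  · obtain ⟨d, hd, hde⟩ := disc_eq (Q.comp E.subtype) b
    rw [← FormsDisc.isSquare_mul_sq_iff hd, mul_assoc, ← hde]
    have hdiag : (Matrix.of fun i j => polarBilin (Q.comp E.subtype) (b i) (b j)) =
        Matrix.diagonal fun i => 2 * w i := by
      ext i j
      rw [Matrix.of_apply, polar_subForm, hb, hb]
      rcases eq_or_ne i j with rfl | hij
      · rw [Matrix.diagonal_apply_eq, hvv]
      · rw [Matrix.diagonal_apply_ne _ hij, hvo i j hij]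
    have h1 : ∀ i : Fin e, 2 * w i.succ = 1 := fun i => by
      show 2 * (if i.succ = 0 then a / 2 else 1 / 2) = 1
      rw [if_neg (Fin.succ_ne_zero i)]; field_simp
    have h0 : 2 * w 0 = a := by
      show 2 * (if (0 : Fin (e + 1)) = 0 then a / 2 else 1 / 2) = a
      rw [if_pos rfl]; field_simp
    rw [hdiag, Matrix.det_diagonal, Fin.prod_univ_succ, h0, Finset.prod_congr rfl (fun i _ => h1 i),
      Finset.prod_const_one, mul_one]
    exact ⟨a, rfl⟩

end CfsgLib.OrthDerange
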