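import Mathlib

/-!
A model of an orthogonal unipotent element with prescribed block sizes: the Gram matrix pairs the
block positions `i` and `k - 1 - i` with alternating signs, the shift is skew for it, and its Cayley
transform is the isometry.
-/

set_option autoImplicit false

namespace CfsgLib.OrthDerange.Model

open Module Matrix

variable {F : Type*} [Field F] {P : Type} [Fintype P] [DecidableEq P] {k : P → ℕ}

/-- The block positions. -/
abbrev Pos (k : P → ℕ) : Type := Σ t : P, Fin (k t)

/-- The pairs of positions paired by the form. -/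
def Paired (τ : P → P) (a b : Pos k) : Prop :=
  b.1 = τ a.1 ∧ a.2.val + b.2.val + 1 = k a.1

instance decPaired (τ : P → P) (a b : Pos k) : Decidable (Paired τ a b) :=
  inferInstanceAs (Decidable (_ ∧ _))

/-- The Gram matrix. -/
def gram (τ : P → P) (c : P → F) : Matrix (Pos k) (Pos k) F :=
  fun a b => if Paired τ a b then (-1) ^ a.2.val * c a.1 else 0

/-- The shift. -/
def shift (k : P → ℕ) : Matrix (Pos k) (Pos k) F :=
  fun b a => if b.1 = a.1 ∧ b.2.val = a.2.val + 1 then 1 else 0

omit [Fintype P] [DecidableEq P] in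
theorem pos_ext {a b : Pos k} (h1 : a.1 = b.1) (h2 : a.2.val = b.2.val) : a = b := by
  obtain ⟨t, i⟩ := a
  obtain ⟨t', i'⟩ := b
  dsimp only at h1 h2
  subst h1
  exact congrArg (Sigma.mk t) (Fin.ext h2)

variable {τ : P → P} (hτ : ∀ t, τ (τ t) = t) (hk : ∀ t, k (τ t) = k t)
  {c : P → F} (hc0 : ∀ t, c t ≠ 0) (hc : ∀ t, c (τ t) = (-1) ^ (k t + 1) * c t)

include hτ hk in
omit [Fintype P] [DecidableEq P] in
theorem Paired.symm {a b : Pos k} (h : Paired τ a b) : Paired τ b a :=
  ⟨by rw [h.1, hτ], by have e := congrArg k h.1; rw [hk] at e; have := h.2; omega⟩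

include hk in
omit [Fintype P] [DecidableEq P] in
/-- The partner of a position. -/
theorem exists_paired (a : Pos k) : ∃ b, Paired τ a b :=
  ⟨⟨τ a.1, ⟨k a.1 - 1 - a.2.val, by rw [hk]; have := a.2.isLt; omega⟩⟩, rfl,
    by have := a.2.isLt; show a.2.val + (k a.1 - 1 - a.2.val) + 1 = k a.1; omega⟩

omit [Fintype P] [DecidableEq P] in
theorem Paired.unique {a b b' : Pos k} (h : Paired τ a b) (h' : Paired τ a b') : b = b' :=
  pos_ext (h.1.trans h'.1.symm) (by have := h.2; have := h'.2; omega)

include hτ hk hc in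
omit [Fintype P] in
theorem gram_symm : (gram (k := k) τ c)ᵀ = gram τ c := by
  ext a b
  rw [transpose_apply, gram, gram]
  by_cases h : Paired τ a b
  · have hcb : c b.1 = (-1) ^ (k a.1 + 1) * c a.1 := by rw [h.1]; exact hc _
    rw [if_pos h, if_pos (h.symm hτ hk), hcb, ← mul_assoc, ← pow_add]
    congr 1
    refine neg_one_pow_congr ?_
    have h2 := h.2
    simp only [Nat.even_iff]
    omega
  · rw [if_neg h, if_neg fun h' => h (h'.symm hτ hk)]

include hτ hk hc0 in
theorem gram_det_ne_zero : (gram (k := k) τ c).det ≠ 0 := by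
  intro h
  obtain ⟨v, hv, hv0⟩ := Matrix.exists_mulVec_eq_zero_iff.2 h
  refine hv (funext fun b => ?_)
  obtain ⟨a, ha⟩ := exists_paired hk b
  have hab : Paired τ a b := ha.symm hτ hk
  have he := congrFun hv0 a
  rw [mulVec, dotProduct, Finset.sum_eq_single b] at he
  · rw [gram, if_pos hab] at he
    exact (mul_eq_zero.1 he).resolve_left (mul_ne_zero (pow_ne_zero _ (by simp)) (hc0 _))
  · intro x _ hx
    rw [gram, if_neg fun h' => hx (h'.unique hab), zero_mul]
  · simp

include hk in
theorem shift_skew : (shift (F := F) k)ᵀ * gram τ c = -(gram τ c * shift k) := by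
  ext a b
  rw [neg_apply, mul_apply, mul_apply]
  simp only [transpose_apply]
  by_cases hP : b.1 = τ a.1 ∧ a.2.val + b.2.val + 2 = k a.1
  · have h2 := hP.2
    have hb : b.2.val + 1 < k b.1 := by have e := congrArg k hP.1; rw [hk] at e; omega
    let a' : Pos k := ⟨a.1, ⟨a.2.val + 1, by omega⟩⟩
    let b' : Pos k := ⟨b.1, ⟨b.2.val + 1, hb⟩⟩
    rw [Finset.sum_eq_single a', Finset.sum_eq_single b']
    · rw [shift, if_pos ⟨rfl, rfl⟩, gram, if_pos ⟨hP.1, show a.2.val + 1 + b.2.val + 1 = k a.1 by omega⟩,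
        gram, if_pos ⟨hP.1, show a.2.val + (b.2.val + 1) + 1 = k a.1 by omega⟩, shift, if_pos ⟨rfl, rfl⟩]
      show 1 * ((-1) ^ (a.2.val + 1) * c a.1) = -((-1) ^ a.2.val * c a.1 * 1)
      rw [pow_succ]; ring
    · intro x _ hx
      by_cases hs : x.1 = b.1 ∧ x.2.val = b.2.val + 1
      · exact absurd (pos_ext (a := x) (b := b') hs.1 hs.2) hx
      · rw [shift, if_neg hs, mul_zero]
    · simp
    · intro x _ hx
      by_cases hs : x.1 = a.1 ∧ x.2.val = a.2.val + 1
      · exact absurd (pos_ext (a := x) (b := a') hs.1 hs.2) hx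
      · rw [shift, if_neg hs, zero_mul]
    · simp
  · rw [Finset.sum_eq_zero, Finset.sum_eq_zero, neg_zero]
    · intro x _
      by_cases hs : x.1 = b.1 ∧ x.2.val = b.2.val + 1
      · rw [gram, if_neg, zero_mul]
        intro h
        exact hP ⟨hs.1 ▸ h.1, by have := h.2; omega⟩
      · rw [shift, if_neg hs, mul_zero]
    · intro x _
      by_cases hs : x.1 = a.1 ∧ x.2.val = a.2.val + 1
      · rw [gram, if_neg, mul_zero]
        intro h
        exact hP ⟨hs.1 ▸ h.1, by have := h.2; have := congrArg k hs.1; omega⟩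
      · rw [shift, if_neg hs, zero_mul]

theorem shift_pow_mulVec (j : ℕ) (f : Pos k → F) (b : Pos k) :
    ((shift (F := F) k) ^ j *ᵥ f) b =
      if _h : j ≤ b.2.val then f ⟨b.1, ⟨b.2.val - j, by have := b.2.isLt; omega⟩⟩ else 0 := by
  induction j generalizing b with
  | zero => simp
  | succ j ih =>
    rw [pow_succ', ← mulVec_mulVec, mulVec, dotProduct]
    by_cases hb : 1 ≤ b.2.val
    · let a : Pos k := ⟨b.1, ⟨b.2.val - 1, by have := b.2.isLt; omega⟩⟩
      rw [Finset.sum_eq_single a]
      · rw [shift, if_pos ⟨rfl, show b.2.val = b.2.val - 1 + 1 by omega⟩, one_mul, ih]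
        by_cases h : j + 1 ≤ b.2.val
        · rw [dif_pos (show j ≤ a.2.val by show j ≤ b.2.val - 1; omega), dif_pos h]
          congr 1
          exact pos_ext rfl (show b.2.val - 1 - j = b.2.val - (j + 1) by omega)
        · rw [dif_neg (show ¬ j ≤ a.2.val by show ¬ j ≤ b.2.val - 1; omega), dif_neg h]
      · intro x _ hx
        rw [shift, if_neg, zero_mul]
        exact fun h => hx (pos_ext h.1.symm (show x.2.val = b.2.val - 1 by omega))
      · simp
    · rw [dif_neg (by omega)]
      refine Finset.sum_eq_zero fun x _ => ?_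
      rw [shift, if_neg, zero_mul]
      omega

theorem finrank_range_shift_pow (j : ℕ) :
    finrank F (LinearMap.range (toLin' (shift (F := F) k ^ j))) = ∑ t, (k t - j) := by
  let S := {b : Pos k // j ≤ b.2.val}
  let E : (S → F) →ₗ[F] (Pos k → F) :=
    { toFun := fun h b => if hb : j ≤ b.2.val then h ⟨b, hb⟩ else 0
      map_add' := fun g h => funext fun b => by simp only [Pi.add_apply]; split_ifs <;> simp
      map_smul' := fun a h => funext fun b => by
        simp only [Pi.smul_apply, RingHom.id_apply]; split_ifs <;> simp }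
  have hE : ∀ h b, E h b = if hb : j ≤ b.2.val then h ⟨b, hb⟩ else 0 := fun h b => rfl
  have hinj : Function.Injective E := fun g h e => funext fun b => by
    have := congrFun e b.1
    rwa [hE, hE, dif_pos b.2, dif_pos b.2] at this
  have hrange : LinearMap.range (toLin' (shift (F := F) k ^ j)) = LinearMap.range E := by
    apply le_antisymm
    · rintro _ ⟨f, rfl⟩
      refine ⟨fun b => (shift (F := F) k ^ j *ᵥ f) b.1, funext fun b => ?_⟩
      rw [hE, toLin'_apply]
      split_ifs with hb
      · rfl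
      · rw [shift_pow_mulVec, dif_neg hb]
    · rintro _ ⟨h, rfl⟩
      refine ⟨fun a => if ha : a.2.val + j < k a.1 then h ⟨⟨a.1, ⟨a.2.val + j, ha⟩⟩, by
        show j ≤ a.2.val + j; omega⟩ else 0, funext fun b => ?_⟩
      rw [toLin'_apply, shift_pow_mulVec, hE]
      by_cases hb : j ≤ b.2.val
      · rw [dif_pos hb, dif_pos hb]
        refine (dif_pos (show b.2.val - j + j < k b.1 by have := b.2.isLt; omega)).trans ?_
        congr 1
        exact Subtype.ext (pos_ext rfl (show b.2.val - j + j = b.2.val by omega))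
      · rw [dif_neg hb, dif_neg hb]
  rw [hrange, LinearMap.finrank_range_of_inj hinj, Module.finrank_fintype_fun_eq_card]
  have e : S ≃ Σ t : P, Fin (k t - j) :=
    { toFun := fun b => ⟨b.1.1, ⟨b.1.2.val - j, by have := b.1.2.isLt; have := b.2; omega⟩⟩
      invFun := fun a => ⟨⟨a.1, ⟨a.2.val + j, by have := a.2.isLt; omega⟩⟩,
        by show j ≤ a.2.val + j; omega⟩
      left_inv := fun b => Subtype.ext (pos_ext rfl (by have := b.2; show _ - j + j = _; omega))
      right_inv := fun a => pos_ext (k := fun t => k t - j) rfl (by show _ + j - j = _; omega) }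
  rw [Fintype.card_congr e, Fintype.card_sigma]
  simp

theorem shift_pow_eq_zero {p : ℕ} (hp : ∀ t, k t ≤ p) : shift (F := F) k ^ p = 0 := by
  refine toLin'.injective ?_
  rw [map_zero, ← LinearMap.range_eq_bot, ← Submodule.finrank_eq_zero, finrank_range_shift_pow]
  exact Finset.sum_eq_zero fun t _ => Nat.sub_eq_zero_of_le (hp t)

include hk in
/-- The Cayley transform of the shift. -/
theorem exists_cayley {p : ℕ} [Fact p.Prime] [CharP F p] (hp2 : p ≠ 2) (hp : ∀ t, k t ≤ p) :
    ∃ T : Matrix (Pos k) (Pos k) F, Tᵀ * gram τ c * T = gram τ c ∧ T ^ p = 1 ∧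
      ∀ j, finrank F (LinearMap.range ((toLin' T - 1) ^ j)) = ∑ t, (k t - j) := by
  cases isEmpty_or_nonempty (Pos k) with
  | inl h =>
    refine ⟨1, by simp, one_pow p, fun j => ?_⟩
    rw [Finset.sum_eq_zero fun t _ => ?_]
    · exact Nat.le_zero.1 ((Submodule.finrank_le _).trans (by simp))
    · by_contra hne
      exact IsEmpty.false (⟨t, ⟨0, by omega⟩⟩ : Pos k)
  | inr h =>
  have : CharP (Matrix (Pos k) (Pos k) F) p := Matrix.charP p
  set M := shift (F := F) k
  have hM : M ^ p = 0 := shift_pow_eq_zero hp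
  set S := ∑ i ∈ Finset.range p, M ^ i
  set S' := ∑ i ∈ Finset.range p, (-M) ^ i
  have hS : (1 - M) * S = 1 := by rw [mul_neg_geom_sum, hM, sub_zero]
  have hnM : (-M) ^ p = 0 := by rw [neg_pow, hM, mul_zero]
  have hS' : S' * (1 + M) = 1 := by
    rw [show (1 + M) = 1 - (-M) by abel, geom_sum_mul_neg, hnM, sub_zero]
  have hskew : Mᵀ * gram τ c = gram τ c * (-M) := by rw [shift_skew hk, mul_neg]
  have hpow : ∀ i : ℕ, (Mᵀ) ^ i * gram τ c = gram τ c * (-M) ^ i := by
    intro i
    induction i with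
    | zero => simp
    | succ i ih => rw [pow_succ, mul_assoc, hskew, ← mul_assoc, ih, mul_assoc, ← pow_succ]
  have hST : Sᵀ * gram τ c = gram τ c * S' := by
    simp only [S, S', transpose_sum, transpose_pow, Finset.sum_mul, Finset.mul_sum, hpow]
  have hcS : Commute M S := Commute.sum_right _ _ _ fun i _ => (Commute.refl M).pow_right i
  refine ⟨(1 + M) * S, ?_, ?_, fun j => ?_⟩
  · have h1 : ((1 + M) * S)ᵀ * gram τ c = gram τ c * (S' * (1 - M)) := by
      rw [transpose_mul, transpose_add, transpose_one, mul_assoc, add_mul, one_mul, hskew,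
        ← mul_one_add, ← mul_assoc, hST, mul_assoc, ← sub_eq_add_neg]
    rw [h1, mul_assoc]
    have h2 : S' * (1 - M) * ((1 + M) * S) = 1 := by
      have hcm : (1 - M) * (1 + M) = (1 + M) * (1 - M) := by noncomm_ring
      rw [mul_assoc, ← mul_assoc (1 - M), hcm, ← mul_assoc, ← mul_assoc, hS', one_mul, hS]
    rw [h2, mul_one]
  · have hT : (1 + M) * S = 1 + (2 : ℕ) • (M * S) := by
      calc (1 + M) * S = (1 - M) * S + (2 : ℕ) • (M * S) := by noncomm_ring
        _ = 1 + (2 : ℕ) • (M * S) := by rw [hS]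
    rw [hT, add_pow_char_of_commute _ (Commute.one_left _), one_pow, smul_pow, hcS.mul_pow, hM,
      zero_mul, smul_zero, add_zero]
  · have hT : toLin' ((1 + M) * S) - 1 = toLin' (M * ((2 : F) • S)) := by
      rw [Module.End.one_eq_id, ← toLin'_one, ← map_sub]
      congr 1
      rw [mul_smul_comm, two_smul]
      calc (1 + M) * S - 1 = (1 - M) * S + (M * S + M * S) - 1 := by noncomm_ring
        _ = M * S + M * S := by rw [hS]; abel
    have hc2 : Commute M ((2 : F) • S) := hcS.smul_right _
    have h2 : (2 : F) ≠ 0 := fun h => hp2 ((Nat.prime_dvd_prime_iff_eq Fact.out Nat.prime_two).1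
      ((CharP.cast_eq_zero_iff F p 2).1 (by exact_mod_cast h)))
    have hu : IsUnit (((2 : F) • S) ^ j) := by
      refine IsUnit.pow _ ?_
      have hS1 : S * (1 - M) = 1 := mul_eq_one_comm.1 hS
      exact ⟨⟨(2 : F) • S, (2 : F)⁻¹ • (1 - M), by rw [smul_mul_smul_comm, mul_inv_cancel₀ h2, hS1, one_smul],
        by rw [smul_mul_smul_comm, inv_mul_cancel₀ h2, hS, one_smul]⟩, rfl⟩
    rw [hT, ← Matrix.toLin'_pow, hc2.mul_pow, Matrix.toLin'_mul, LinearMap.range_comp,
      LinearMap.range_eq_top.2 fun v => ?_, Submodule.map_top, finrank_range_shift_pow]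
    obtain ⟨u, hu⟩ := hu
    exact ⟨(↑u⁻¹ : Matrix (Pos k) (Pos k) F) *ᵥ v, by
      rw [toLin'_apply, mulVec_mulVec, ← hu, Units.mul_inv, one_mulVec]⟩

end CfsgLib.OrthDerange.Model
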