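import Mathlib
import Cfsg.Agent.Lib.LinFix.Jordan
import Cfsg.Agent.Lib.Forms.Classify

/-!
Unipotent isometries of a symmetric form in odd characteristic: the odd powers of `T - 1` have even
rank, so even block sizes have even multiplicity on every invariant non-degenerate subspace.
-/

set_option autoImplicit false

namespace CfsgLib.OrthDerange

open Module CfsgLib.LinFix

variable {F V : Type*} [Field F] [AddCommGroup V] [Module F V] [FiniteDimensional F V]

/-- A skew map for a non-degenerate symmetric form has even rank. -/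
theorem even_finrank_range_of_skew (B : LinearMap.BilinForm F V) (hB : B.Nondegenerate)
    (hS : B.IsSymm) (h2 : (2 : F) ≠ 0) (A : Module.End F V)
    (hA : ∀ u v, B (A u) v = - B u (A v)) : Even (finrank F (LinearMap.range A)) := by
  let β : LinearMap.BilinForm F V := B.comp A LinearMap.id
  have hβ : ∀ u v, β u v = B (A u) v := fun u v => rfl
  have halt : β.IsAlt := fun u => by
    rw [hβ]
    have h : B (A u) u = -B (A u) u := by
      nth_rewrite 2 [hS.eq]
      exact hA u u
    exact (mul_eq_zero.1 (by linear_combination h : (2 : F) * B (A u) u = 0)).resolve_left h2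
  obtain ⟨C, hC⟩ := exists_isCompl (LinearMap.ker A)
  obtain ⟨m, k, b, hd, hspan, -, -, -, hrad⟩ := Forms.exists_symplectic_family β halt _ C rfl
  have hli : LinearIndependent F b := linearIndependent_iff_card_eq_finrank_span.2 (by
    rw [Set.finrank, hspan, ← hd]
    simp)
  have hk : k = 0 := by
    rcases Nat.eq_zero_or_pos k with h | h
    · exact h
    · exfalso
      let j : Fin k := ⟨0, h⟩
      have hbC : b (.inr j) ∈ C := hspan.le (Submodule.subset_span ⟨_, rfl⟩)
      have hker : b (.inr j) ∈ LinearMap.ker A := by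
        refine LinearMap.mem_ker.2 (hB.1 _ fun v => ?_)
        obtain ⟨z, hz, c, hc, rfl⟩ : ∃ z ∈ LinearMap.ker A, ∃ c ∈ C, z + c = v :=
          Submodule.mem_sup.1 (hC.sup_eq_top ▸ Submodule.mem_top)
        rw [map_add, ← hβ _ c, hrad j c hc, add_zero, hA, LinearMap.mem_ker.1 hz, map_zero,
          neg_zero]
      exact hli.ne_zero _ ((Submodule.disjoint_def.1 hC.disjoint) _ hker hbC)
  have h1 := LinearMap.finrank_range_add_finrank_ker A
  have h3 := Submodule.finrank_add_eq_of_isCompl hC
  exact ⟨m, by omega⟩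

variable {p : ℕ} [Fact p.Prime] [CharP F p]

omit [FiniteDimensional F V] in
theorem two_ne_zero_of_char (hp2 : p ≠ 2) : (2 : F) ≠ 0 := by
  intro h
  have : ((2 : ℕ) : F) = 0 := by exact_mod_cast h
  exact hp2 ((Nat.prime_dvd_prime_iff_eq Fact.out Nat.prime_two).1
    ((CharP.cast_eq_zero_iff F p 2).1 this))

/-- The odd powers of `T - 1` have even rank. -/
theorem even_finrank_range_sub_one_pow (hp2 : p ≠ 2) (B : LinearMap.BilinForm F V)
    (hB : B.Nondegenerate) (hS : B.IsSymm) (T : Module.End F V)
    (hiso : ∀ u v, B (T u) (T v) = B u v) (hT : T ^ p = 1) {j : ℕ} (hj : Odd j) :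
    Even (finrank F (LinearMap.range ((T - 1) ^ j))) := by
  obtain ⟨l, hl⟩ := (Fact.out : p.Prime).odd_of_ne_two hp2
  have hpow : ∀ (i : ℕ) u v, B ((T ^ i) u) ((T ^ i) v) = B u v := by
    intro i
    induction i with
    | zero => intro u v; rfl
    | succ i ih => intro u v; rw [pow_succ', Module.End.mul_apply, Module.End.mul_apply, hiso, ih]
  have h1 : T ^ (l + 1) * T ^ l = 1 := by rw [← pow_add, ← hT]; congr 1; omega
  have h1' : T ^ l * T ^ (l + 1) = 1 := by rw [← pow_add, ← hT]; congr 1; omega
  let M : Module.End F V := T ^ l * (T - 1)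
  have hM : M = T ^ (l + 1) - T ^ l := by simp only [M, mul_sub, mul_one, pow_succ]
  have hskew : ∀ u v, B (M u) v = - B u (M v) := by
    intro u v
    have e1 : B ((T ^ (l + 1)) u) v = B u ((T ^ l) v) := by
      rw [← hpow l ((T ^ (l + 1)) u) v, ← Module.End.mul_apply, h1', Module.End.one_apply]
    have e2 : B ((T ^ l) u) v = B u ((T ^ (l + 1)) v) := by
      rw [← hpow (l + 1) ((T ^ l) u) v, ← Module.End.mul_apply, h1, Module.End.one_apply]
    rw [hM, LinearMap.sub_apply, LinearMap.sub_apply, map_sub, LinearMap.sub_apply, map_sub, e1, e2]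
    ring
  have hskew' : ∀ (i : ℕ) u v, B ((M ^ i) u) v = (-1 : F) ^ i * B u ((M ^ i) v) := by
    intro i
    induction i with
    | zero => intro u v; simp
    | succ i ih =>
      intro u v
      rw [pow_succ', Module.End.mul_apply, hskew, ih, ← Module.End.mul_apply, ← pow_succ,
        ← pow_succ', pow_succ (-1 : F)]
      ring
  have hcomm : Commute (T ^ l) (T - 1) :=
    ((Commute.refl T).pow_left l).sub_right (Commute.one_right _)
  have hMj : M ^ j = T ^ (l * j) * (T - 1) ^ j := by rw [hcomm.mul_pow, ← pow_mul]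
  have he := even_finrank_range_of_skew B hB hS (two_ne_zero_of_char hp2) (M ^ j) fun u v => by
    rw [hskew' j, hj.neg_one_pow, neg_one_mul]
  have hinj : Function.Injective (T ^ (l * j)) := fun u v h => sub_eq_zero.1 <| hB.1 _ fun w => by
    rw [← hpow (l * j), map_sub, h, sub_self, map_zero, LinearMap.zero_apply]
  rwa [hMj, Module.End.mul_eq_comp, LinearMap.range_comp,
    (Submodule.equivMapOfInjective _ hinj _).finrank_eq.symm] at he

variable (hp2 : p ≠ 2) (B : LinearMap.BilinForm F V) (hS : B.IsSymm) (T : Module.End F V)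
  (hiso : ∀ u v, B (T u) (T v) = B u v) (hT : T ^ p = 1)

include hp2 hS hiso hT in
/-- The ranks on an invariant non-degenerate subspace. -/
theorem even_finrank_map {W : Submodule F V} (hW : Inv T W) (hWnd : (B.restrict W).Nondegenerate)
    {j : ℕ} (hj : Odd j) : Even (finrank F (W.map ((T - 1) ^ j))) := by
  let Tw : Module.End F W := T.restrict hW
  have hTw : ∀ (i : ℕ) (x : W), ((Tw ^ i) x : V) = (T ^ i) x := by
    intro i
    induction i with
    | zero => intro x; rfl
    | succ i ih =>
      intro x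
      rw [pow_succ', pow_succ', Module.End.mul_apply, Module.End.mul_apply, ← ih]
      rfl
  have hTw' : ∀ (i : ℕ) (x : W), (((Tw - 1) ^ i) x : V) = ((T - 1) ^ i) x := by
    intro i
    induction i with
    | zero => intro x; rfl
    | succ i ih =>
      intro x
      rw [pow_succ', pow_succ', Module.End.mul_apply, Module.End.mul_apply, LinearMap.sub_apply,
        LinearMap.sub_apply, Module.End.one_apply, Module.End.one_apply, AddSubgroupClass.coe_sub,
        ← ih]
      rfl
  have he := even_finrank_range_sub_one_pow hp2 (B.restrict W) hWnd ⟨fun x y => hS.eq (x : V) y⟩ Tw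
    (fun u v => hiso (u : V) v) (LinearMap.ext fun x => Subtype.ext (by rw [hTw, hT]; rfl)) hj
  have hmap : (LinearMap.range ((Tw - 1) ^ j)).map W.subtype = W.map ((T - 1) ^ j) := by
    rw [← LinearMap.range_comp]
    ext v
    constructor
    · rintro ⟨x, rfl⟩
      exact ⟨x, x.2, (hTw' j x).symm⟩
    · rintro ⟨x, hx, rfl⟩
      exact ⟨⟨x, hx⟩, hTw' j _⟩
  rwa [← hmap, Submodule.finrank_map_subtype_eq]

include hp2 hS hiso hT in
/-- The block sizes of an invariant non-degenerate subspace. -/
theorem exists_sub (hB : B.Nondegenerate) {μ : Multiset ℕ} (hμ : ∀ a ∈ μ, 0 < a)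
    (hrank : ∀ j, finrank F (LinearMap.range ((T - 1) ^ j)) = blockRank μ j)
    {W : Submodule F V} (hW : Inv T W) (hWnd : (B.restrict W).Nondegenerate) :
    ∃ ν ≤ μ, ν.sum = finrank F W ∧ (∀ e, Even e → Even (ν.count e)) ∧ (∀ a ∈ ν, 0 < a) ∧
      ∀ j, finrank F (W.map ((T - 1) ^ j)) = blockRank ν j := by
  have hrefl : B.IsRefl := fun x y h => by rw [hS.eq] at h; exact h
  have hc : IsCompl W (B.orthogonal W) :=
    (LinearMap.BilinForm.restrict_nondegenerate_iff_isCompl_orthogonal hrefl).1 hWnd
  have hinj : Function.Injective T := fun u v h => sub_eq_zero.1 <| hB.1 _ fun w => by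
    rw [← hiso, map_sub, h, sub_self, map_zero, LinearMap.zero_apply]
  have hW' : Inv T (B.orthogonal W) := by
    intro v hv
    rw [LinearMap.BilinForm.mem_orthogonal_iff] at hv ⊢
    have hmap : W.map T = W := Submodule.eq_of_le_of_finrank_eq hW.map_le
      (Submodule.equivMapOfInjective _ hinj W).finrank_eq.symm
    intro w hw
    rw [← hmap] at hw
    obtain ⟨w', hw', rfl⟩ := hw
    rw [hiso]
    exact hv w' hw'
  obtain ⟨ν, hν, hνr, hνs, -⟩ := exists_blocks_char hT hW
  obtain ⟨ν', hν', hν'r, -, -⟩ := exists_blocks_char hT hW'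
  refine ⟨ν, ?_, hνs, fun e he => ?_, fun a ha => (hν a ha).1, hνr⟩
  · rw [eq_of_blockRank hμ (ν := ν + ν') (fun a ha => ?_) fun j => ?_]
    · exact Multiset.le_add_right ν ν'
    · rcases Multiset.mem_add.1 ha with h | h
      exacts [(hν a h).1, (hν' a h).1]
    · rw [blockRank_add, ← hνr, ← hν'r,
        ← finrank_map_pow_sup (inv_sub_one_iff.2 hW) (inv_sub_one_iff.2 hW') hc.disjoint,
        hc.sup_eq_top, Submodule.map_top, hrank]
  · rcases Nat.eq_zero_or_pos e with rfl | hepos
    · rw [Multiset.count_eq_zero.2 fun h0 => (hν 0 h0).1.false]; exact Even.zero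
    · have h := count_eq_blockRank ν hepos
      obtain ⟨e', rfl⟩ := he
      have h1 := even_finrank_map hp2 B hS T hiso hT hW hWnd (j := e' + e' - 1) ⟨e' - 1, by omega⟩
      have h2 := even_finrank_map hp2 B hS T hiso hT hW hWnd (j := e' + e' + 1) ⟨e', by omega⟩
      rw [hνr] at h1 h2
      obtain ⟨a, ha⟩ := h1
      obtain ⟨b, hb⟩ := h2
      exact ⟨a + b - blockRank ν (e' + e'), by omega⟩

include hS hiso in
/-- Quadratic action with half rank gives a singular half. -/
theorem exists_singular_half {W : Submodule F V} (hW : Inv T W) {ν : Multiset ℕ}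
    (hν : ∀ a ∈ ν, a = 2) (hsum : ν.sum = finrank F W)
    (hνr : ∀ j, finrank F (W.map ((T - 1) ^ j)) = blockRank ν j) :
    ∃ U : Submodule F V, U ≤ W ∧ 2 * finrank F U = finrank F W ∧ ∀ u ∈ U, B u u = 0 := by
  rw [Multiset.eq_replicate_card.2 hν] at hsum hνr
  have hr : ∀ j, blockRank (Multiset.replicate ν.card 2) j = ν.card * (2 - j) := by
    intro j; simp [blockRank, Multiset.map_replicate, Multiset.sum_replicate]
  have hsq : ∀ w ∈ W, T (T w) = 2 • T w - w := by
    intro w hw
    have h0 : W.map ((T - 1) ^ 2) = ⊥ := Submodule.finrank_eq_zero.1 (by rw [hνr, hr]; simp)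
    have hm : ((T - 1 : Module.End F V) ^ 2) w ∈ W.map ((T - 1) ^ 2) := ⟨w, hw, rfl⟩
    rw [h0, Submodule.mem_bot] at hm
    have h := hm
    rw [sq, Module.End.mul_apply] at h
    simp only [LinearMap.sub_apply, Module.End.one_apply, map_sub] at h
    rw [two_nsmul]
    linear_combination (norm := module) h
  refine ⟨W.map (T - 1), ?_, ?_, ?_⟩
  · rintro _ ⟨w, hw, rfl⟩
    exact W.sub_mem (hW w hw) hw
  · have h := hνr 1
    rw [pow_one, hr] at h
    rw [h, ← hsum, Multiset.sum_replicate, smul_eq_mul]
    ring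
  · rintro _ ⟨w, hw, rfl⟩
    have h1 := hiso (T w) w
    rw [hsq w hw, two_nsmul] at h1
    simp only [map_sub, map_add, LinearMap.sub_apply, LinearMap.add_apply, hiso] at h1
    simp only [LinearMap.sub_apply, Module.End.one_apply, map_sub, hiso, hS.eq w (T w)]
    rw [hS.eq w (T w)] at h1
    linear_combination h1

end CfsgLib.OrthDerange
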