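import Mathlib
import Cfsg.Prelude.Def_GeometricClasses
import Cfsg.Agent.Lib.Orth.NegOne
import Cfsg.Agent.Lib.LinFix.Jordan
import Cfsg.Agent.Lib.OrthDerange.Model
import Cfsg.Agent.Lib.OrthDerange.Parity
import Cfsg.Agent.Lib.OrthDerange.Forms

/-!
Realisation of orthogonal elements of order `p` with prescribed block sizes, and the combinatorial
criterion for their fixing non-degenerate subspaces.
-/

set_option autoImplicit false

namespace CfsgLib.OrthDerange

open Module CfsgLib.LinFix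

variable {F : Type*} [Field F] [Fintype F] {ι : Type} [Fintype ι] [DecidableEq ι]

/-- Isometries of odd order lie in `Ω`. -/
theorem mem_omegaGL_of_odd_order (h2 : (2 : F) ≠ 0) (Q : QuadraticForm F (ι → F))
    (hnd : (QuadraticMap.polarBilin Q).Nondegenerate) (hn : 2 ≤ Fintype.card ι) {x : GL ι F}
    (hx : ∀ v, Q ((x : Matrix ι ι F).mulVec v) = Q v) {k : ℕ} (hk : Odd k) (hxk : x ^ k = 1) :
    x ∈ Cfsg.Geo.omegaGL ⇑Q := by
  let g : ↥(Cfsg.isometryGroup F ⇑Q) := ⟨x, fun u _ => hx u⟩
  refine ⟨g, ?_, rfl⟩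
  have hidx := CfsgLib.OrthNegOne.index_Omega_odd h2 hnd hn
  haveI hN : (Cfsg.Omega F ⇑Q).Normal := inferInstanceAs (commutator _).Normal
  have h4 : g ^ 4 ∈ Cfsg.Omega F ⇑Q := hidx ▸ Subgroup.pow_index_mem (Cfsg.Omega F ⇑Q) g
  have hgk : g ^ k = 1 := Subtype.ext (by simpa using hxk)
  obtain ⟨l, rfl⟩ := hk
  have hcop : Nat.Coprime 4 (2 * l + 1) := by
    rw [show (4 : ℕ) = 2 ^ 2 by norm_num]
    exact Nat.Coprime.pow_left 2 (Nat.coprime_two_left.2 ⟨l, rfl⟩)
  obtain ⟨a, b, hab⟩ := (Int.isCoprime_iff_gcd_eq_one.2 (by exact_mod_cast hcop) :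
    IsCoprime ((4 : ℕ) : ℤ) ((2 * l + 1 : ℕ) : ℤ))
  have : g = (g ^ 4) ^ a * (g ^ (2 * l + 1)) ^ b := by
    rw [← zpow_natCast g 4, ← zpow_natCast g (2 * l + 1), ← zpow_mul, ← zpow_mul, ← zpow_add]
    rw [mul_comm ((4 : ℕ) : ℤ), mul_comm ((2 * l + 1 : ℕ) : ℤ), hab, zpow_one]
  show g ∈ Cfsg.Omega F ⇑Q
  rw [this, hgk, one_zpow, mul_one]
  exact zpow_mem h4 _

/-- Splitting the even parts into pairs. -/
theorem exists_half (μ : Multiset ℕ) (hev : ∀ e, Even e → Even (μ.count e)) :
    ∃ Lo Le : Multiset ℕ, μ = Lo + (Le + Le) ∧ (∀ e ∈ Lo, Odd e) ∧ ∀ e ∈ Le, Even e := by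
  refine ⟨μ.filter Odd, ∑ e ∈ μ.toFinset.filter Even, Multiset.replicate (μ.count e / 2) e,
    Multiset.ext.2 fun a => ?_, fun e he => (Multiset.mem_filter.1 he).2, fun e he => ?_⟩
  · rw [Multiset.count_add, Multiset.count_add, Multiset.count_sum', Multiset.count_filter]
    simp only [Multiset.count_replicate, eq_comm (b := a)]
    rw [Finset.sum_ite_eq (μ.toFinset.filter Even) a fun e => μ.count e / 2]
    rcases Nat.even_or_odd a with ha | ha
    · obtain ⟨c, hc⟩ := hev a ha
      rw [if_neg (Nat.not_odd_iff_even.2 ha)]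
      by_cases hm : a ∈ μ
      · rw [if_pos (Finset.mem_filter.2 ⟨Multiset.mem_toFinset.2 hm, ha⟩), hc]
        omega
      · rw [if_neg fun h => hm (Multiset.mem_toFinset.1 (Finset.mem_filter.1 h).1),
          Multiset.count_eq_zero.2 hm]
        rfl
    · rw [if_pos ha, if_neg fun h => (Nat.not_even_iff_odd.2 ha) (Finset.mem_filter.1 h).2]
      omega
  · obtain ⟨a, ha, hae⟩ := Multiset.mem_sum.1 he
    rw [(Multiset.mem_replicate.1 hae).2]
    exact (Finset.mem_filter.1 ha).2

theorem sum_get {L : List ℕ} (f : ℕ → ℕ) : ∑ i : Fin L.length, f (L.get i) = (L.map f).sum := by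
  rw [← List.sum_ofFn]
  congr 1
  apply List.ext_get (by simp)
  intro n h1 h2
  simp

variable {p : ℕ} [Fact p.Prime] [CharP F p]

/-- An element of `Ω` of order `p` with given block sizes. -/
theorem exists_unipotent (hp2 : p ≠ 2) (Q : QuadraticForm F (ι → F))
    (hnd : (QuadraticMap.polarBilin Q).Nondegenerate) {μ : Multiset ℕ}
    (hμ : ∀ e ∈ μ, 0 < e ∧ e ≤ p) (hev : ∀ e, Even e → Even (μ.count e))
    (hodd : ∃ e ∈ μ, Odd e) (hbig : ∃ e ∈ μ, 1 < e) (hsum : μ.sum = Fintype.card ι) :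
    ∃ x : GL ι F, x ∈ Cfsg.Geo.omegaGL ⇑Q ∧ orderOf x = p ∧
      (∀ z : F, (x : Matrix ι ι F) ≠ z • (1 : Matrix ι ι F)) ∧
      Matrix.toLin' (x : Matrix ι ι F) ^ p = 1 ∧
      (∀ u v, QuadraticMap.polarBilin Q (Matrix.toLin' (x : Matrix ι ι F) u)
        (Matrix.toLin' (x : Matrix ι ι F) v) = QuadraticMap.polarBilin Q u v) ∧
      ∀ j, finrank F (LinearMap.range ((Matrix.toLin' (x : Matrix ι ι F) - 1) ^ j)) =
        blockRank μ j := by
  classical
  have h2 : (2 : F) ≠ 0 := two_ne_zero_of_char hp2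
  obtain ⟨Lo, Le, hμe, hLo, hLe⟩ := exists_half μ hev
  obtain ⟨e₀, he₀, he₀o⟩ := hodd
  let P := Fin Lo.toList.length ⊕ (Fin Le.toList.length × Bool)
  let k : P → ℕ := fun t => Sum.elim (fun i => Lo.toList.get i) (fun i => Le.toList.get i.1) t
  let τ : P → P := fun t => Sum.elim (fun i => Sum.inl i) (fun i => Sum.inr (i.1, !i.2)) t
  have hτ : ∀ t, τ (τ t) = t := by rintro (i | ⟨i, b⟩) <;> simp [τ]
  have hk : ∀ t, k (τ t) = k t := by rintro (i | ⟨i, b⟩) <;> rfl
  have hko : ∀ i, Odd (k (Sum.inl i)) := fun i => hLo _ (Multiset.mem_toList.1 (List.get_mem _ _))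
  have hke : ∀ i, Even (k (Sum.inr i)) := fun i => hLe _ (Multiset.mem_toList.1 (List.get_mem _ _))
  have hsumk : ∀ f : ℕ → ℕ, ∑ t, f (k t) = (μ.map f).sum := by
    intro f
    rw [Fintype.sum_sum_type, Fintype.sum_prod_type]
    simp only [k, Sum.elim_inl, Sum.elim_inr, Finset.sum_const, Finset.card_univ, Fintype.card_bool,
      smul_eq_mul, ← Finset.mul_sum]
    rw [sum_get f, sum_get f, hμe, Multiset.map_add, Multiset.map_add, Multiset.sum_add,
      Multiset.sum_add, ← Multiset.sum_coe (Lo.toList.map f), ← Multiset.sum_coe (Le.toList.map f),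
      ← Multiset.map_coe, ← Multiset.map_coe, Multiset.coe_toList, Multiset.coe_toList, two_mul]
  obtain ⟨i₀, hi₀⟩ : ∃ i, k (Sum.inl i) = e₀ := by
    have : e₀ ∈ Lo := by
      rw [hμe] at he₀
      rcases Multiset.mem_add.1 he₀ with h | h
      · exact h
      · rcases Multiset.mem_add.1 h with h' | h' <;>
          exact absurd (hLe _ h') (Nat.not_even_iff_odd.2 he₀o)
    obtain ⟨i, hi⟩ := List.get_of_mem (Multiset.mem_toList.2 this)
    exact ⟨i, hi⟩
  have hkp : ∀ t, k t ≤ p := by
    intro t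
    have : k t ∈ μ := by
      rw [hμe]
      rcases t with i | ⟨i, b⟩
      · exact Multiset.mem_add.2 (Or.inl (Multiset.mem_toList.1 (List.get_mem _ _)))
      · exact Multiset.mem_add.2 (Or.inr (Multiset.mem_add.2
          (Or.inl (Multiset.mem_toList.1 (List.get_mem _ _)))))
    exact (hμ _ this).2
  obtain ⟨ε, hε⟩ := FiniteField.exists_nonsquare (F := F) (fun h => h2 (by
    have : CharP F 2 := ringChar.of_eq h
    exact CharTwo.two_eq_zero))
  have hε0 : ε ≠ 0 := by rintro rfl; exact hε ⟨0, by simp⟩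
  let c : P → F := fun t => Sum.elim (fun _ => 1) (fun i => cond i.2 1 (-1)) t
  let c' : P → F := fun t => if t = Sum.inl i₀ then ε * c t else c t
  have hc : ∀ t, c (τ t) = (-1) ^ (k t + 1) * c t := by
    rintro (i | ⟨i, b⟩)
    · rw [(hko i).add_one.neg_one_pow, one_mul]; rfl
    · rw [(hke (i, b)).add_one.neg_one_pow]; cases b <;> simp [c, τ]
  have hc0 : ∀ t, c t ≠ 0 := by rintro (i | ⟨i, b⟩) <;> [simp [c]; (cases b <;> simp [c])]
  have ht₀ : ∀ t, τ t = Sum.inl i₀ ↔ t = Sum.inl i₀ := fun t =>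
    ⟨fun h => by rw [← hτ t, h]; rfl, fun h => by rw [h]; rfl⟩
  have hc' : ∀ t, c' (τ t) = (-1) ^ (k t + 1) * c' t := by
    intro t
    simp only [c', ht₀]
    split_ifs <;> rw [hc] <;> ring
  have hc'0 : ∀ t, c' t ≠ 0 := fun t => by
    simp only [c']; split_ifs <;> simp [hε0, hc0 t]
  have hGdiag : Model.gram (k := k) τ c' =
      Matrix.diagonal (fun a : Model.Pos k => if a.1 = Sum.inl i₀ then ε else 1) *
        Model.gram τ c := by
    ext a b
    rw [Matrix.diagonal_mul]
    simp only [Model.gram, c']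
    split_ifs <;> ring
  have hcount : (Finset.univ.filter fun a : Model.Pos k => a.1 = Sum.inl i₀).card = e₀ := by
    rw [← hi₀, ← Fintype.card_fin (k (Sum.inl i₀)), ← Finset.card_univ]
    symm
    refine Finset.card_bij (fun i _ => (⟨Sum.inl i₀, i⟩ : Model.Pos k)) (fun i _ => by simp)
      (fun i _ j _ h => eq_of_heq (Sigma.mk.inj h).2) fun a ha => ?_
    obtain ⟨t, i⟩ := a
    simp only [Finset.mem_filter, Finset.mem_univ, true_and] at ha
    subst ha
    exact ⟨i, Finset.mem_univ _, rfl⟩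
  have hdet : (Model.gram (k := k) τ c').det = ε ^ e₀ * (Model.gram (k := k) τ c).det := by
    rw [hGdiag, Matrix.det_mul, Matrix.det_diagonal, Finset.prod_ite, Finset.prod_const,
      Finset.prod_const_one, mul_one, hcount]
  have hG0 := Model.gram_det_ne_zero hτ hk hc0 (k := k)
  -- the right discriminant
  obtain ⟨g, hg, hgc, hgd⟩ : ∃ g : P → F, (∀ t, g t ≠ 0) ∧ (∀ t, g (τ t) = (-1) ^ (k t + 1) * g t) ∧
      IsSquare ((Model.gram (k := k) τ g).det * disc Q) := by
    by_cases hs : IsSquare ((Model.gram (k := k) τ c).det * disc Q)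
    · exact ⟨c, hc0, hc, hs⟩
    · refine ⟨c', hc'0, hc', ?_⟩
      obtain ⟨l, rfl⟩ := he₀o
      rw [hdet, mul_assoc, FormsDisc.isSquare_mul_iff_of_odd h2 (pow_ne_zero _ hε0)
        (mul_ne_zero hG0 (disc_ne_zero hnd))]
      refine ⟨fun h => absurd ?_ hε, fun h => absurd h hs⟩
      rw [pow_succ, pow_mul, mul_comm, sq, ← sq, ← pow_mul, mul_comm 2 l, pow_mul,
        FormsDisc.isSquare_mul_sq_iff (pow_ne_zero _ hε0)] at h
      exact h
  obtain ⟨T, hTG, hTp, hTr⟩ := Model.exists_cayley (c := g) hk hp2 hkp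
  set G := Model.gram (k := k) τ g with hGdef
  have hGs : G.transpose = G := Model.gram_symm hτ hk hgc
  have hG0' : G.det ≠ 0 := Model.gram_det_ne_zero hτ hk hg
  let B : LinearMap.BilinForm F (Model.Pos k → F) := Matrix.toBilin' G
  have hBs : ∀ u v, B u v = B v u := fun u v => by
    simp only [B, Matrix.toBilin'_apply']
    rw [Matrix.dotProduct_mulVec, ← Matrix.mulVec_transpose, hGs, dotProduct_comm]
  let Q₁ : QuadraticForm F (Model.Pos k → F) := ((2 : F)⁻¹ • B).toQuadraticMap
  have hQ₁ : ∀ u v, QuadraticMap.polarBilin Q₁ u v = B u v := fun u v => by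
    simp only [Q₁, QuadraticMap.polarBilin_apply_apply, LinearMap.BilinMap.polar_toQuadraticMap,
      LinearMap.smul_apply, smul_eq_mul, hBs v u]
    field_simp
    ring
  have hnd₁ : (QuadraticMap.polarBilin Q₁).Nondegenerate :=
    nondegenerate_of_left fun u hu => by
      have : B.Nondegenerate := Matrix.nondegenerate_toBilin'_iff.2
        (Matrix.nondegenerate_of_det_ne_zero hG0')
      exact this.1 u fun v => by rw [← hQ₁]; exact hu v
  have hdim : finrank F (Model.Pos k → F) = finrank F (ι → F) := by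
    rw [finrank_fintype_fun_eq_card, finrank_fintype_fun_eq_card, Fintype.card_sigma, ← hsum]
    simp only [Fintype.card_fin]
    rw [hsumk (fun e => e), Multiset.map_id']
  obtain ⟨E, hE⟩ := exists_isometry h2 Q₁ Q hnd₁ hnd hdim (by
    obtain ⟨d, hd, hde⟩ := disc_eq Q₁ (Pi.basisFun F (Model.Pos k))
    have hGe : (Matrix.of fun a b => QuadraticMap.polarBilin Q₁ (Pi.basisFun F _ a)
        (Pi.basisFun F (Model.Pos k) b)) = G := by
      ext a b
      rw [Matrix.of_apply, hQ₁, Pi.basisFun_apply, Pi.basisFun_apply]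
      simp [B]
    rw [hGe] at hde
    rw [← FormsDisc.isSquare_mul_sq_iff hd, mul_right_comm, ← hde]
    exact hgd)
  let L : Module.End F (Model.Pos k → F) := Matrix.toLin' T
  have hLB : ∀ u v, B (L u) (L v) = B u v := fun u v => by
    simp only [B, L, Matrix.toBilin'_apply', Matrix.toLin'_apply]
    rw [Matrix.dotProduct_mulVec, ← Matrix.mulVec_transpose, hGs, dotProduct_comm,
      Matrix.mulVec_mulVec, Matrix.dotProduct_mulVec, ← Matrix.mulVec_transpose,
      Matrix.mulVec_mulVec, Matrix.transpose_mul, hGs, hTG, dotProduct_comm,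
      Matrix.dotProduct_mulVec, ← Matrix.mulVec_transpose, hGs]
  let L' : Module.End F (ι → F) := E.conj L
  have hL'p : L' ^ p = 1 := by
    have h : ∀ i, E.conj L ^ i = E.conj (L ^ i) := by
      intro i
      induction i with
      | zero => ext v; simp [LinearEquiv.conj_apply]
      | succ i ih =>
        rw [pow_succ, ih, pow_succ, Module.End.mul_eq_comp, Module.End.mul_eq_comp,
          LinearEquiv.conj_comp]
    rw [h, ← Matrix.toLin'_pow, hTp, Matrix.toLin'_one]
    exact LinearEquiv.conj_id E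
  have hiso : ∀ u v, QuadraticMap.polarBilin Q (L' u) (L' v) = QuadraticMap.polarBilin Q u v := by
    have hpE : ∀ a b, QuadraticMap.polarBilin Q (E a) (E b) = B a b := fun a b => by
      rw [← hQ₁]
      simp only [QuadraticMap.polarBilin_apply_apply, QuadraticMap.polar, ← map_add, hE]
    intro u v
    obtain ⟨u, rfl⟩ := E.surjective u
    obtain ⟨v, rfl⟩ := E.surjective v
    simp only [L', LinearEquiv.conj_apply, LinearMap.comp_apply, LinearEquiv.coe_coe,
      LinearEquiv.symm_apply_apply, hpE, hLB]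
  have hQiso : ∀ v, Q (L' v) = Q v := fun v => by
    have h := hiso v v
    simp only [QuadraticMap.polarBilin_apply_apply, QuadraticMap.polar_self, two_nsmul] at h
    exact mul_left_cancel₀ h2 (by linear_combination h)
  obtain ⟨l, hl⟩ : ∃ l, p = l + 1 := ⟨p - 1, by have := (Fact.out : p.Prime).pos; omega⟩
  let x : GL ι F := ⟨LinearMap.toMatrix' L', LinearMap.toMatrix' (L' ^ l),
    by rw [← LinearMap.toMatrix'_mul, ← pow_succ', ← hl, hL'p, LinearMap.toMatrix'_one],
    by rw [← LinearMap.toMatrix'_mul, ← pow_succ, ← hl, hL'p, LinearMap.toMatrix'_one]⟩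
  have hxL : Matrix.toLin' (x : Matrix ι ι F) = L' := Matrix.toLin'_toMatrix' L'
  have hxp : x ^ p = 1 := by
    apply Units.ext
    apply Matrix.toLin'.injective
    rw [Units.val_pow_eq_pow_val, Matrix.toLin'_pow, hxL, hL'p, Units.val_one, Matrix.toLin'_one]
    rfl
  have hranks : ∀ j, finrank F (LinearMap.range ((L' - 1) ^ j)) = blockRank μ j := by
    intro j
    have h : ∀ i, (L' - 1) ^ i = E.conj ((L - 1) ^ i) := by
      intro i
      induction i with
      | zero => ext v; simp [LinearEquiv.conj_apply]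
      | succ i ih =>
        rw [pow_succ, ih, pow_succ, Module.End.mul_eq_comp, Module.End.mul_eq_comp,
          LinearEquiv.conj_comp]
        congr 1
        show E.conj L - 1 = _
        rw [map_sub]
        congr 1
        exact (LinearEquiv.conj_id E).symm
    rw [h, LinearEquiv.conj_apply, LinearMap.range_comp_of_range_eq_top _
      (LinearMap.range_eq_top.2 E.symm.surjective), LinearMap.range_comp,
      LinearEquiv.finrank_map_eq, hTr, hsumk fun e => e - j]
    rfl
  have hpos : 0 < blockRank μ 1 := by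
    obtain ⟨e, he, he1⟩ := hbig
    obtain ⟨μ', rfl⟩ := Multiset.exists_cons_of_mem he
    show 0 < ((e ::ₘ μ').map (· - 1)).sum
    rw [Multiset.map_cons, Multiset.sum_cons]
    omega
  have hne1 : L' ≠ 1 := fun h => by
    have := hranks 1
    rw [h, sub_self, zero_pow one_ne_zero, LinearMap.range_zero, finrank_bot] at this
    omega
  have hcard : 2 ≤ Fintype.card ι := by
    obtain ⟨e, he, he1⟩ := hbig
    have := Multiset.le_sum_of_mem he
    omega
  refine ⟨x, mem_omegaGL_of_odd_order h2 Q hnd hcard (fun v => ?_)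
      ((Fact.out : p.Prime).odd_of_ne_two hp2) hxp, orderOf_eq_prime hxp fun h => hne1 ?_,
    fun z hz => ?_, by rw [hxL, hL'p], fun u v => by rw [hxL, hiso],
    fun j => by rw [hxL, hranks]⟩
  · rw [← Matrix.toLin'_apply, hxL, hQiso]
  · rw [← hxL, h, Units.val_one, Matrix.toLin'_one]; rfl
  · apply hne1
    have hz' : Matrix.toLin' (x : Matrix ι ι F) = z • (1 : Module.End F (ι → F)) := by
      rw [hz, map_smul, Matrix.toLin'_one]; rfl
    rw [hxL] at hz'
    have : Nonempty ι := Fintype.card_pos_iff.1 (by omega)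
    have hzp : z ^ p = 1 := by
      have h := hL'p
      rw [hz', smul_pow, one_pow] at h
      have h' := congrFun (LinearMap.congr_fun h fun _ => (1 : F)) (Classical.arbitrary ι)
      simpa using h'
    have : z = 1 := frobenius_inj F p (by simpa [frobenius_def] using hzp)
    rw [hz', this, one_smul]

/-- Modifying a partition with only even parts keeps the even subsums. -/
theorem exists_nu_all_even {μ : Multiset ℕ} {p m : ℕ} (hp : Odd p) (hμ : ∀ e ∈ μ, 0 < e ∧ e ≤ p)
    (hev : ∀ e, Even e → Even (μ.count e)) (hall : ∀ e ∈ μ, Even e) (hne : μ ≠ 0) (hm : Even m)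
    (H : ∀ μ' : Multiset ℕ, (∀ e ∈ μ', 0 < e ∧ e ≤ p) → (∀ e, Even e → Even (μ'.count e)) →
      (∃ e ∈ μ', Odd e) → (∃ e ∈ μ', 1 < e) → μ'.sum = μ.sum →
      ∃ ν ≤ μ', ν.sum = m ∧ ∀ e, Even e → Even (ν.count e)) :
    ∃ ν ≤ μ, ν.sum = m ∧ ∀ e, Even e → Even (ν.count e) := by
  obtain ⟨k, hk⟩ := Multiset.exists_mem_of_ne_zero hne
  have hke := hall k hk
  obtain ⟨c, hc⟩ := hev k hke
  have hc0 := Multiset.count_pos.2 hk
  have hkk : Multiset.replicate 2 k ≤ μ := Multiset.le_count_iff_replicate_le.1 (by omega)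
  obtain ⟨R, rfl⟩ := exists_add_of_le hkk
  have hkp := hμ k hk
  obtain ⟨k', rfl⟩ := hke
  have hkp' : k' + k' + 1 ≤ p := by obtain ⟨l, rfl⟩ := hp; omega
  set a := k' + k' + 1
  set b := k' + k' - 1
  have hao : Odd a := ⟨k', by omega⟩
  have hbo : Odd b := ⟨k' - 1, by omega⟩
  have hRe : ∀ e ∈ R, Even e := fun e he => hall e (Multiset.mem_add.2 (Or.inr he))
  have hfe : ({a, b} : Multiset ℕ).filter Even = 0 := by
    refine Multiset.filter_eq_nil.2 fun e he => ?_
    rcases Multiset.mem_cons.1 he with rfl | he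
    · exact Nat.not_even_iff_odd.2 hao
    · rw [Multiset.mem_singleton.1 he]; exact Nat.not_even_iff_odd.2 hbo
  have hab : ∀ e, Even e → ({a, b} : Multiset ℕ).count e = 0 := fun e he => by
    refine Multiset.count_eq_zero.2 fun h => ?_
    rcases Multiset.mem_cons.1 h with rfl | h
    · exact Nat.not_even_iff_odd.2 hao he
    · rw [Multiset.mem_singleton.1 h] at he; exact Nat.not_even_iff_odd.2 hbo he
  have hpair : ∀ e, Even ((Multiset.replicate 2 (k' + k')).count e) := fun e => by
    rw [Multiset.count_replicate]; split_ifs <;> simp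
  obtain ⟨ν', hν', hν's, hν'e⟩ := H ({a, b} + R) (by
      intro e he
      rcases Multiset.mem_add.1 he with he | he
      · rcases Multiset.mem_cons.1 he with rfl | he
        · exact ⟨by omega, hkp'⟩
        · rw [Multiset.mem_singleton.1 he]; exact ⟨by omega, by omega⟩
      · exact hμ e (Multiset.mem_add.2 (Or.inr he)))
    (fun e he => by
      have h := hev e he
      rw [Multiset.count_add, Nat.even_add] at h
      rw [Multiset.count_add, hab e he, zero_add]
      exact h.1 (hpair e))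
    ⟨a, Multiset.mem_add.2 (Or.inl (Multiset.mem_cons_self _ _)), hao⟩
    ⟨a, Multiset.mem_add.2 (Or.inl (Multiset.mem_cons_self _ _)), by omega⟩
    (by
      simp only [Multiset.sum_add, Multiset.insert_eq_cons, Multiset.sum_cons,
        Multiset.sum_singleton, Multiset.sum_replicate, smul_eq_mul]
      omega)
  let A := ν'.filter (fun e => ¬ Even e)
  let E := ν'.filter Even
  have hA : A ≤ {a, b} := by
    have h := Multiset.filter_le_filter (fun e => ¬ Even e) hν'
    rw [Multiset.filter_add, (Multiset.filter_eq_nil (s := R)).2 (fun e he h => h (hRe e he)), add_zero] at h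
    exact h.trans (Multiset.filter_le _ _)
  have hE : E ≤ R := by
    have h := Multiset.filter_le_filter Even hν'
    rw [Multiset.filter_add, hfe, zero_add] at h
    exact h.trans (Multiset.filter_le _ _)
  have hsplit : E + A = ν' := Multiset.filter_add_not _ _
  have hEs : Even E.sum := Multiset.sum_induction _ _ (fun x y hx hy => hx.add hy) Even.zero
    fun e he => (Multiset.mem_filter.1 he).2
  have hAs : Even A.sum := by
    have := congrArg Multiset.sum hsplit
    rw [Multiset.sum_add, hν's] at this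
    obtain ⟨u, hu⟩ := hEs
    obtain ⟨v, hv⟩ := hm
    exact ⟨v - u, by omega⟩
  have hA2 : A = 0 ∨ A = {a, b} := by
    have hcard := Multiset.card_le_card hA
    simp only [Multiset.insert_eq_cons, Multiset.card_cons, Multiset.card_singleton] at hcard
    interval_cases hAc : A.card
    · exact Or.inl (Multiset.card_eq_zero.1 hAc)
    · exfalso
      obtain ⟨e, he⟩ := Multiset.card_eq_one.1 hAc
      rw [he, Multiset.sum_singleton] at hAs
      exact (Multiset.mem_filter.1 (show e ∈ A by rw [he]; exact Multiset.mem_singleton_self e)).2 hAs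
    · exact Or.inr (Multiset.eq_of_le_of_card_le hA (by simp [hAc]))
  have hEc : ∀ e, Even e → Even (E.count e) := fun e he => by
    rw [Multiset.count_filter, if_pos he]; exact hν'e e he
  have hs := congrArg Multiset.sum hsplit
  rw [Multiset.sum_add, hν's] at hs
  rcases hA2 with h | h
  · exact ⟨E, hE.trans (Multiset.le_add_left _ _), by rw [h] at hs; simpa using hs, hEc⟩
  · refine ⟨Multiset.replicate 2 (k' + k') + E, add_le_add le_rfl hE, ?_, fun e he => ?_⟩
    · rw [h] at hs
      simp only [Multiset.insert_eq_cons, Multiset.sum_cons, Multiset.sum_singleton] at hs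
      rw [Multiset.sum_add, Multiset.sum_replicate, smul_eq_mul]
      omega
    · rw [Multiset.count_add]; exact (hpair e).add (hEc e he)

/-- If every element of order `p` fixes a non-degenerate subspace of dimension `m`, every admissible
partition has an admissible part of sum `m`. -/
theorem exists_nu_of_fixes (hp2 : p ≠ 2) (Q : QuadraticForm F (ι → F))
    (hnd : (QuadraticMap.polarBilin Q).Nondegenerate) {m : ℕ} (hm : Even m)
    (hmn : m ≤ Fintype.card ι)
    (H : ∀ x : GL ι F, x ∈ Cfsg.Geo.omegaGL ⇑Q → orderOf x = p →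
      (∀ z : F, (x : Matrix ι ι F) ≠ z • (1 : Matrix ι ι F)) →
      ∃ W : Submodule F (ι → F), finrank F W = m ∧ NDSub Q W ∧
        Inv (Matrix.toLin' (x : Matrix ι ι F)) W)
    (μ : Multiset ℕ) (hμ : ∀ e ∈ μ, 0 < e ∧ e ≤ p) (hev : ∀ e, Even e → Even (μ.count e))
    (hsum : μ.sum = Fintype.card ι) :
    ∃ ν ≤ μ, ν.sum = m ∧ ∀ e, Even e → Even (ν.count e) := by
  have key : ∀ μ : Multiset ℕ, (∀ e ∈ μ, 0 < e ∧ e ≤ p) → (∀ e, Even e → Even (μ.count e)) →
      (∃ e ∈ μ, Odd e) → (∃ e ∈ μ, 1 < e) → μ.sum = Fintype.card ι →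
      ∃ ν ≤ μ, ν.sum = m ∧ ∀ e, Even e → Even (ν.count e) := by
    intro μ hμ hev hodd hbig hsum
    obtain ⟨x, hx, hxo, hxn, hxp, hxi, hxr⟩ := exists_unipotent hp2 Q hnd hμ hev hodd hbig hsum
    obtain ⟨W, hWd, hWn, hWi⟩ := H x hx hxo hxn
    obtain ⟨ν, hν, hνs, hνe, -, -⟩ := exists_sub hp2 (QuadraticMap.polarBilin Q)
      ⟨fun a b => by simp [QuadraticMap.polar_comm]⟩ _ hxi hxp hnd (fun e he => (hμ e he).1) hxr
      hWi hWn.restrict
    exact ⟨ν, hν, hνs.trans hWd, hνe⟩
  by_cases hbig : ∃ e ∈ μ, 1 < e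
  · by_cases hodd : ∃ e ∈ μ, Odd e
    · exact key μ hμ hev hodd hbig hsum
    · push Not at hodd
      obtain ⟨e, he, -⟩ := hbig
      refine exists_nu_all_even ((Fact.out : p.Prime).odd_of_ne_two hp2) hμ hev
        (fun e he => Nat.not_odd_iff_even.1 (hodd e he)) (fun h => by simp [h] at he) hm ?_
      intro μ' h1 h2 h3 h4 h5
      exact key μ' h1 h2 h3 h4 (h5.trans hsum)
  · push Not at hbig
    have h1 : ∀ e ∈ μ, e = 1 := fun e he => le_antisymm (hbig e he) (hμ e he).1
    have hμ1 := Multiset.eq_replicate_card.2 h1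
    have hc : μ.card = Fintype.card ι := by
      rw [← hsum]; conv_rhs => rw [hμ1]
      simp
    refine ⟨Multiset.replicate m 1, ?_, by simp, fun e he => ?_⟩
    · conv_rhs => rw [hμ1]
      exact Multiset.replicate_mono 1 (by omega)
    · rw [Multiset.count_replicate, if_neg (by rintro rfl; exact absurd he (by decide))]
      exact Even.zero

/-- The element all of whose invariant non-degenerate subspaces of the given dimension are of plus
type. -/
theorem exists_plus_only (hp2 : p ≠ 2) (Q : QuadraticForm F (ι → F))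
    (hnd : (QuadraticMap.polarBilin Q).Nondegenerate) {m : ℕ} (hm4 : m % 4 = 0)
    (hn : 5 ≤ Fintype.card ι) (hn4 : Fintype.card ι % 4 ≠ 0) :
    ∃ x : GL ι F, x ∈ Cfsg.Geo.omegaGL ⇑Q ∧ orderOf x = p ∧
      (∀ z : F, (x : Matrix ι ι F) ≠ z • (1 : Matrix ι ι F)) ∧
      ∀ W : Submodule F (ι → F), finrank F W = m → NDSub Q W →
        Inv (Matrix.toLin' (x : Matrix ι ι F)) W → Cfsg.Geo.IsPlusTypeOn ⇑Q W := by
  obtain ⟨p', hp'⟩ := (Fact.out : p.Prime).odd_of_ne_two hp2
  have hp3 : 3 ≤ p := by have := (Fact.out : p.Prime).two_le; omega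
  obtain ⟨j, R, hn', hR, hRe, hRs⟩ : ∃ (j : ℕ) (R : Multiset ℕ),
      Fintype.card ι = 4 * (j + 1) + R.sum ∧ (R = {1} ∨ R = {1, 1} ∨ R = {3}) ∧
      (∀ e ∈ R, (0 < e ∧ e ≤ p) ∧ Odd e) ∧ R.sum ≤ 3 := by
    rcases (show Fintype.card ι % 4 = 1 ∨ Fintype.card ι % 4 = 2 ∨ Fintype.card ι % 4 = 3 by omega)
      with h | h | h
    · exact ⟨Fintype.card ι / 4 - 1, {1}, by simp; omega, Or.inl rfl, by simp; omega, by simp⟩
    · exact ⟨Fintype.card ι / 4 - 1, {1, 1}, by simp; omega, Or.inr (Or.inl rfl), by simp; omega,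
        by simp⟩
    · exact ⟨Fintype.card ι / 4 - 1, {3}, by simp; omega, Or.inr (Or.inr rfl), by
        intro e he
        rw [Multiset.mem_singleton.1 he]
        exact ⟨⟨by omega, hp3⟩, by decide⟩, by simp⟩
  let μ := Multiset.replicate (2 * (j + 1)) 2 + R
  have hRc : ∀ e, Even e → R.count e = 0 := fun e he =>
    Multiset.count_eq_zero.2 fun h => Nat.not_even_iff_odd.2 (hRe e h).2 he
  have hRne : ∃ e ∈ R, Odd e := by
    rcases hR with h | h | h <;> exact ⟨_, by rw [h]; exact Multiset.mem_cons_self _ _, by decide⟩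
  obtain ⟨x, hx, hxo, hxn, hxp, hxi, hxr⟩ := exists_unipotent hp2 Q hnd (μ := μ)
    (fun e he => by
      rcases Multiset.mem_add.1 he with h | h
      · rw [(Multiset.mem_replicate.1 h).2]; exact ⟨by omega, by omega⟩
      · exact (hRe e h).1)
    (fun e he => by
      rw [Multiset.count_add, hRc e he, add_zero, Multiset.count_replicate]
      split_ifs
      · exact even_two_mul _
      · exact Even.zero)
    (let ⟨e, he, ho⟩ := hRne; ⟨e, Multiset.mem_add.2 (Or.inr he), ho⟩)
    ⟨2, Multiset.mem_add.2 (Or.inl (Multiset.mem_replicate.2 ⟨by omega, rfl⟩)), by omega⟩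
    (by rw [Multiset.sum_add, Multiset.sum_replicate, smul_eq_mul, hn']; ring)
  refine ⟨x, hx, hxo, hxn, fun W hWd hWn hWi => ?_⟩
  have hS : LinearMap.BilinForm.IsSymm (QuadraticMap.polarBilin Q) :=
    ⟨fun a b => by simp [QuadraticMap.polar_comm]⟩
  have hpos : ∀ e ∈ μ, 0 < e := fun e he => by
    rcases Multiset.mem_add.1 he with h | h
    · rw [(Multiset.mem_replicate.1 h).2]; omega
    · exact (hRe e h).1.1
  obtain ⟨ν, hν, hνs, hνe, -, hνr⟩ := exists_sub hp2 _ hS _ hxi hxp hnd hpos hxr hWi hWn.restrict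
  have hνsum : ν.sum = 2 * ν.count 2 + (ν.filter (· ≠ 2)).sum := by
    conv_lhs => rw [← Multiset.filter_add_not (· = 2) ν]
    rw [Multiset.sum_add, Multiset.filter_eq', Multiset.sum_replicate, smul_eq_mul, mul_comm]
  have hrest : ν.filter (· ≠ 2) ≤ R := by
    have h := Multiset.filter_le_filter (fun e : ℕ => e ≠ 2) hν
    rw [Multiset.filter_add, (Multiset.filter_eq_nil (s := Multiset.replicate (2 * (j + 1)) 2)).2
      (fun e he h => h (Multiset.mem_replicate.1 he).2),
      zero_add] at h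
    exact h.trans (Multiset.filter_le _ _)
  have hrle : (ν.filter (· ≠ 2)).sum ≤ R.sum := by
    obtain ⟨R', hR'⟩ := exists_add_of_le hrest
    conv_rhs => rw [hR']
    rw [Multiset.sum_add]; omega
  obtain ⟨c, hc⟩ := hνe 2 even_two
  have hzero : ν.filter (· ≠ 2) = 0 := by
    by_contra hne
    obtain ⟨e, he⟩ := Multiset.exists_mem_of_ne_zero hne
    have h0 := (hRe e (Multiset.mem_of_le hrest he)).1.1
    have := Multiset.le_sum_of_mem he
    omega
  have hν2 : ∀ a ∈ ν, a = 2 := fun a ha => by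
    by_contra h
    exact Multiset.notMem_zero a (hzero ▸ Multiset.mem_filter.2 ⟨ha, h⟩)
  obtain ⟨U, hUW, hUd, hU⟩ := exists_singular_half _ hS _ hxi hWi hν2 hνs hνr
  refine ⟨U, hUW, fun u hu => ?_, hUd⟩
  have h := hU u hu
  rw [QuadraticMap.polarBilin_apply_apply, QuadraticMap.polar_self, two_nsmul, ← two_mul] at h
  exact (mul_eq_zero.1 h).resolve_left (two_ne_zero_of_char hp2)

end CfsgLib.OrthDerange
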