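import Mathlib
import Cfsg.Agent.Lib.LinFix.OrthParaOdd
import Cfsg.Agent.Lib.LinFix.OrthCompat
import Cfsg.Agent.Lib.OrthCrit.Basic
import Cfsg.Agent.Lib.OrthDerange.Forms
import Cfsg.Agent.Lib.OrthDerange.Unipotent

/-!
Elements of odd prime order prime to the characteristic, and involutions, fixing an even-dimensional
non-degenerate subspace of an odd-dimensional orthogonal space.
-/

set_option autoImplicit false

namespace CfsgLib.OrthDerange

open Module
open CfsgLib.Classical.Quad (NDPolar)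
open CfsgLib.RootCount (IsPlus)
open CfsgLib.LinFix (Inv)
open CfsgLib.OrthInv (Nd Iso Good per)

section abstract

variable {F V : Type*} [Field F] [Fintype F] [AddCommGroup V] [Module F V] [FiniteDimensional F V]
  {Q : QuadraticForm F V}

theorem iso_of_disc (h2 : (2 : F) ≠ 0) {A B : Submodule F V} (hA : Nd Q A) (hB : Nd Q B)
    (hdim : finrank F A = finrank F B)
    (hsq : IsSquare (disc (Q.comp A.subtype) * disc (Q.comp B.subtype))) : Iso Q A B := by
  obtain ⟨e, he⟩ := exists_isometry h2 (Q.comp A.subtype) (Q.comp B.subtype)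
    (NDSub.nondegenerate (Q := Q) hA) (NDSub.nondegenerate (Q := Q) hB) hdim hsq
  exact ⟨e, fun w => he w⟩

/-- A space occurs inside every larger one. -/
theorem exists_iso_in (h2 : (2 : F) ≠ 0) {A D : Submodule F V} (hA : Nd Q A) (hD : Nd Q D)
    (h : finrank F A < finrank F D) : ∃ E ≤ D, Iso Q E A := by
  rcases Nat.eq_zero_or_pos (finrank F A) with h0 | hpos
  · refine ⟨⊥, bot_le, LinearEquiv.ofFinrankEq _ _ (by rw [finrank_bot, h0]), fun w => ?_⟩
    have hw : w = 0 := Subsingleton.elim _ _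
    rw [hw, map_zero, ZeroMemClass.coe_zero, ZeroMemClass.coe_zero]
  · obtain ⟨E, hE, hEd, hEn, hEsq⟩ := exists_sub_disc h2 Q (W := D) hD hpos h
      (a := disc (Q.comp A.subtype)) (disc_ne_zero (NDSub.nondegenerate (Q := Q) hA))
    exact ⟨E, hE, iso_of_disc h2 hEn hA hEd (by rwa [mul_comm])⟩

/-- Completing an invariant subspace inside a part on which every subspace is invariant. -/
theorem exists_good_sup (h2 : (2 : F) ≠ 0) {T : Module.End F V} {E₁ D₂ W₀ : Submodule F V} {m : ℕ}
    (hE₁ : Nd Q E₁) (hE₁i : Inv T E₁) (hD₂ : Nd Q D₂) (hD₂i : ∀ E ≤ D₂, Inv T E)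
    (hdis : Disjoint E₁ D₂) (horth : ∀ x ∈ E₁, ∀ y ∈ D₂, QuadraticMap.polar Q x y = 0)
    (hW₀ : Nd Q W₀) (hW₀m : finrank F W₀ = m) (h1 : finrank F E₁ < m)
    (h12 : m < finrank F E₁ + finrank F D₂) : ∃ W, Good Q W₀ m W ∧ Inv T W := by
  obtain ⟨A', hA'le, hA'⟩ := exists_iso_in h2 hE₁ hW₀ (by rw [hW₀m]; exact h1)
  have hA'n : Nd Q A' := hA'.nd hE₁
  obtain ⟨R, hRle, -, hRn, hRdis, hRsum, hRorth⟩ := CfsgLib.OrthInv.exists_compl_in (T := 1)
    (fun v => rfl) (fun v hv => hv) hA'n (fun v hv => hv) hW₀ hA'le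
  have hA'd := hA'.finrank_eq
  obtain ⟨E₂, hE₂le, hE₂⟩ := exists_iso_in h2 hRn hD₂ (by omega)
  have hsup : A' ⊔ R = W₀ := Submodule.eq_of_le_of_finrank_le (sup_le hA'le hRle)
    (by rw [CfsgLib.LinFix.finrank_sup_of_disjoint hRdis]; omega)
  have hI : Iso Q (E₁ ⊔ E₂) W₀ := hsup ▸ hA'.symm.sup hE₂ (hdis.mono_right hE₂le) hRdis
    (fun x hx y hy => horth x hx y (hE₂le hy)) hRorth
  exact ⟨E₁ ⊔ E₂, ⟨hI.finrank_eq.trans hW₀m, hI.nd hW₀, hI⟩, hE₁i.sup (hD₂i E₂ hE₂le)⟩

omit [Fintype F] in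
theorem isPlus_iso {A B : Submodule F V} (h : Iso Q A B) :
    IsPlus (Q.comp A.subtype) ↔ IsPlus (Q.comp B.subtype) := by
  obtain ⟨e, he⟩ := h
  exact ⟨CfsgLib.RootCount.isPlus_congr _ _ e fun x => he x,
    CfsgLib.RootCount.isPlus_congr _ _ e.symm fun x => by
      show Q ((e.symm x : A) : V) = Q (x : V)
      rw [← he (e.symm x), LinearEquiv.apply_symm_apply]⟩

theorem type_per {i x : ℕ} : (Odd i ∨ Even (x / i)) ↔ (Odd i ∨ Even (x / per i)) := by
  rcases Nat.even_or_odd i with h | h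
  · rw [per, if_pos h]
  · simp [h]

variable {r : ℕ} [Fact r.Prime] {i : ℕ} {p : ℕ} [Fact p.Prime] [CharP F p]

/-- An element moving as much as possible. -/
theorem exists_max_element (h2 : (2 : F) ≠ 0) (hrp : r ≠ p) (hr2 : r ≠ 2)
    (hi : orderOf (Fintype.card F : ZMod r) = i) (hQ : NDPolar Q) {d : ℕ}
    (hdim : finrank F V = 2 * d + 1) :
    ∃ T : Module.End F V, (∀ v, Q (T v) = Q v) ∧ T ^ r = 1 ∧
      finrank F (LinearMap.ker (T - 1)) = (2 * d + 1) % per i := by
  classical
  have hord := CfsgLib.LinFix.orderOf_pos_of_ne (F := F) (p := p) hrp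
  rw [hi] at hord
  have hdm := Nat.div_add_mod (2 * d + 1) (per i)
  rw [mul_comm] at hdm
  set N := (2 * d + 1) / per i with hN
  set k := (2 * d + 1) % per i with hk
  rcases Nat.eq_zero_or_pos N with h0 | hNpos
  · refine ⟨1, fun v => rfl, one_pow r, ?_⟩
    rw [sub_self, LinearMap.ker_zero, finrank_top, hdim]
    rw [h0, zero_mul, zero_add] at hdm
    exact hdm.symm
  have hk1 : 0 < k := by
    rcases Nat.eq_zero_or_pos k with h | h
    · exfalso
      obtain ⟨c, hc⟩ := (CfsgLib.OrthInv.per_even (i := i)).mul_left N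
      omega
    · exact h
  obtain ⟨e, he⟩ : ∃ e, N * per i = 2 * e :=
    ((CfsgLib.OrthInv.per_even (i := i)).mul_left N).exists_two_nsmul _ |>.imp fun e he => by
      rw [he, smul_eq_mul]
  have hpos : 0 < N * per i := Nat.mul_pos hNpos (CfsgLib.OrthInv.per_pos hord)
  obtain ⟨ν, hν⟩ := FiniteField.exists_nonsquare (F := F) (fun h => h2 (by
    have : CharP F 2 := ringChar.of_eq h
    exact CharTwo.two_eq_zero))
  let a : F := if Odd i ∨ Even (N * per i / i) then (-1) ^ e else (-1) ^ e * ν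
  have ha : a ≠ 0 := by
    have : ν ≠ 0 := by rintro rfl; exact hν ⟨0, by simp⟩
    show (if _ then _ else _ : F) ≠ 0
    split_ifs <;> simp [this]
  have htop : Nd Q (⊤ : Submodule F V) := CfsgLib.OrthInv.nd_top hQ
  obtain ⟨D, -, hDd, hDn, hDsq⟩ := exists_sub_disc h2 Q (W := ⊤) htop
    (e := N * per i) hpos (by rw [finrank_top, hdim]; omega) ha
  obtain ⟨C, -, -, hCn, hdis, hsum, horth⟩ := CfsgLib.OrthInv.exists_compl_in (T := 1) (fun v => rfl)
    (fun v hv => hv) hDn (fun v hv => hv) htop le_top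
  rw [finrank_top, hdim] at hsum
  have hplus : IsPlus (Q.comp D.subtype) ↔ (Odd i ∨ Even (2 * e / i)) := by
    rw [← he]
    have hS : LinearMap.BilinForm.IsSymm (QuadraticMap.polarBilin (Q.comp D.subtype)) := ⟨fun x y => by
      simp only [RingHom.id_apply, QuadraticMap.polarBilin_apply_apply]
      exact QuadraticMap.polar_comm _ _ _⟩
    have hiff : IsPlus (Q.comp D.subtype) ↔ IsSquare ((-1 : F) ^ e * disc (Q.comp D.subtype)) := by
      rw [← isSquare_toMatrix (Q.comp D.subtype) (finBasis F D)]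
      constructor
      · rintro ⟨X, hX, hXd⟩
        exact CfsgLib.TensorForms.isSquare_of_isotropic _ hS (hDd.trans he) X (by omega)
          (fun x hx y hy => by
            rw [QuadraticMap.polarBilin_apply_apply, QuadraticMap.polar, hX _ hx, hX _ hy,
              hX _ (X.add_mem hx hy), sub_zero, sub_zero]) _
      · intro h
        obtain ⟨X, hXk, hX⟩ := CfsgLib.TensorForms.exists_isotropic_of_isSquare h2 _
          (NDSub.nondegenerate (Q := Q) hDn) hS (hDd.trans he) _ h
        refine ⟨X, fun x hx => ?_, by omega⟩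
        have := hX x hx x hx
        rw [QuadraticMap.polarBilin_apply_apply, QuadraticMap.polar_self, two_nsmul, ← two_mul] at this
        exact (mul_eq_zero.1 this).resolve_left h2
    have hd0 := disc_ne_zero (NDSub.nondegenerate (Q := Q) hDn)
    rw [hiff]
    by_cases hc : Odd i ∨ Even (N * per i / i)
    · simp only [a, if_pos hc] at hDsq
      simp [hc, hDsq]
    · simp only [a, if_neg hc] at hDsq
      refine iff_of_false (fun h => hν ?_) hc
      have hne : (-1 : F) ^ e * disc (Q.comp D.subtype) ≠ 0 := mul_ne_zero (by simp) hd0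
      have hν0 : ν ≠ 0 := by rintro rfl; exact hν ⟨0, by simp⟩
      rw [show (-1 : F) ^ e * ν * disc (Q.comp D.subtype) =
          ν * ((-1) ^ e * disc (Q.comp D.subtype)) by ring,
        FormsDisc.isSquare_mul_iff_of_odd h2 hν0 hne] at hDsq
      exact hDsq.2 h
  obtain ⟨S, hSiso, hSr, hSker⟩ := CfsgLib.OrthInv.exists_element (p := p) hrp hr2 hi
    (Q := Q.comp D.subtype) (CfsgLib.OrthInv.ndPolar_comp hDn) (hDd.trans he) (N := N) (le_of_eq he)
    (fun _ => hplus)
  have hcompl : IsCompl D C := ⟨hdis, codisjoint_iff.2 (Submodule.eq_top_of_finrank_eq (by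
    rw [CfsgLib.LinFix.finrank_sup_of_disjoint hdis, hdim]; omega))⟩
  let E := Submodule.prodEquivOfIsCompl D C hcompl
  let T' : Module.End F (D × C) := LinearMap.prodMap S LinearMap.id
  have hT'r : T' ^ r = 1 := by
    have h : ∀ j, T' ^ j = LinearMap.prodMap (S ^ j) LinearMap.id := by
      intro j
      induction j with
      | zero => exact LinearMap.ext fun x => rfl
      | succ j ih => rw [pow_succ, ih]; exact LinearMap.ext fun x => rfl
    rw [h, hSr]; exact LinearMap.ext fun x => rfl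
  refine ⟨E.conj T', fun v => ?_, ?_, ?_⟩
  · obtain ⟨⟨x, y⟩, rfl⟩ := E.surjective v
    rw [LinearEquiv.conj_apply, LinearMap.comp_apply, LinearMap.comp_apply, LinearEquiv.coe_coe,
      LinearEquiv.coe_coe, LinearEquiv.symm_apply_apply]
    simp only [T', LinearMap.prodMap_apply, LinearMap.id_apply, E,
      Submodule.coe_prodEquivOfIsCompl']
    rw [QuadraticMap.map_add Q, QuadraticMap.map_add Q, horth _ (S x).2 _ y.2, horth _ x.2 _ y.2]
    congr 2
    exact hSiso x
  · rw [show E.conj T' = E.conjAlgEquiv F T' from rfl, ← map_pow, hT'r, map_one]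
  · have hS0 : LinearMap.ker (S - 1) = ⊥ := Submodule.finrank_eq_zero.1 (by omega)
    have hker : LinearMap.ker (E.conj T' - 1) = C := by
      ext v
      obtain ⟨⟨x, y⟩, rfl⟩ := E.surjective v
      rw [LinearMap.mem_ker, LinearMap.sub_apply, Module.End.one_apply, sub_eq_zero,
        LinearEquiv.conj_apply, LinearMap.comp_apply, LinearMap.comp_apply, LinearEquiv.coe_coe,
        LinearEquiv.coe_coe, LinearEquiv.symm_apply_apply, E.injective.eq_iff]
      constructor
      · intro h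
        have hx : x ∈ LinearMap.ker (S - 1) := by
          rw [LinearMap.mem_ker, LinearMap.sub_apply, Module.End.one_apply, sub_eq_zero]
          exact congrArg Prod.fst h
        rw [hS0, Submodule.mem_bot] at hx
        subst hx
        simp [E]
      · intro h
        have hx : (x : V) ∈ C := by
          have := C.sub_mem h y.2
          simpa [E] using this
        have hx0 : x = 0 := Subtype.ext (Submodule.disjoint_def.1 hdis _ x.2 hx)
        subst hx0
        simp [T']
    rw [hker]; omega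

/-- The criterion for elements of odd order prime to the characteristic. -/
theorem fixes_iff_even (h2 : (2 : F) ≠ 0) (hrp : r ≠ p) (hr2 : r ≠ 2)
    (hi : orderOf (Fintype.card F : ZMod r) = i) (hQ : NDPolar Q) {d m : ℕ}
    (hdim : finrank F V = 2 * d + 1) (hm : Even m) (hm0 : 0 < m)
    (hmd : m ≤ 2 * d) {W₀ : Submodule F V} (hW₀ : Nd Q W₀) (hW₀m : finrank F W₀ = m)
    (hrΩ : r ∣ Nat.card {W : Submodule F V // Good Q W₀ m W}) :
    (∀ T : Module.End F V, (∀ v, Q (T v) = Q v) → T ^ r = 1 → T ≠ 1 → ∃ W, Good Q W₀ m W ∧ Inv T W) ↔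
      (per i ≤ m ∧ m % per i < (2 * d + 1) % per i ∧
        (0 < m % per i ∨ (IsPlus (Q.comp W₀.subtype) ↔ (Odd i ∨ Even (m / per i))))) := by
  have hord := CfsgLib.LinFix.orderOf_pos_of_ne (F := F) (p := p) hrp
  rw [hi] at hord
  have hrF : (r : F) ≠ 0 := CfsgLib.LinFix.natCast_ne_zero_of_ne (p := p) hrp
  have hc := CfsgLib.OrthInv.per_pos hord
  have hcev : Even (per i) := CfsgLib.OrthInv.per_even
  have hev : ∀ x, Even (x % per i) ↔ Even x := fun x => CfsgLib.OrthInv.even_mod_iff' hcev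
  obtain ⟨mh, hmh⟩ := hm
  constructor
  · intro hall
    obtain ⟨T, hiso, hT, hCk⟩ := exists_max_element (p := p) h2 hrp hr2 hi hQ hdim
    set k := (2 * d + 1) % per i with hk
    have hkc : k < per i := Nat.mod_lt _ hc
    have hkodd : ¬ Even k := fun h => by
      obtain ⟨a, ha⟩ := (hev _).1 h
      omega
    have hmev : Even (m % per i) := (hev _).2 ⟨mh, hmh⟩
    set C := LinearMap.ker (T - 1) with hC
    have hCn : Nd Q C := by
      simpa [hC] using (CfsgLib.OrthInv.nd_parts hrF hT hiso (CfsgLib.LinFix.inv_top T)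
        (CfsgLib.OrthInv.nd_top hQ)).1
    have hsplit : ∀ W, Inv T W → Nd Q W → finrank F W = m →
        ∃ j, finrank F ↥(W ⊓ C) + j * per i = m ∧ (j = 0 → W ≤ C) ∧
          finrank F ↥(W ⊓ LinearMap.range (T - 1)) = j * per i := by
      intro W hW hWn hWm
      obtain ⟨j, hj⟩ := CfsgLib.OrthInv.per_dvd hi hord hr2 hrF hiso hT
        (D := W ⊓ LinearMap.range (T - 1))
        (hW.inf (CfsgLib.OrthInv.inv_range T)) (CfsgLib.OrthInv.nd_parts hrF hT hiso hW hWn).2
        ((CfsgLib.OrthInv.disjoint_fix_range hrF hT).symm.mono_left inf_le_right)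
      have h := CfsgLib.OrthInv.finrank_split hrF hT hW
      refine ⟨j, by rw [mul_comm, ← hj, hC]; omega, fun hj0 => ?_, by rw [hj, mul_comm]⟩
      have h0 : finrank F ↥(W ⊓ LinearMap.range (T - 1)) = 0 := by rw [hj, hj0, mul_zero]
      rw [← CfsgLib.OrthInv.sup_split hrF hT hW, Submodule.finrank_eq_zero.1 h0, sup_bot_eq]
      exact inf_le_right
    by_cases hsmall : m < per i ∧ m < k
    · exfalso
      obtain ⟨hmc, hmk⟩ := hsmall
      have : Finite V := Module.finite_of_finite F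
      have hP : ∀ W, Good Q W₀ m W → Good Q W₀ m (W.map T) := by
        rintro W ⟨hWm, hWn, e, he⟩
        let f := Submodule.equivMapOfInjective T
          (CfsgLib.OrthInv.injective_of_pow (Fact.out : r.Prime).ne_zero hT) W
        have hiso' : Iso Q (W.map T) W₀ := ⟨f.symm.trans e, fun w => by
          obtain ⟨u, rfl⟩ := f.surjective w
          rw [LinearEquiv.trans_apply, LinearEquiv.symm_apply_apply, he]
          exact (hiso u).symm⟩
        exact ⟨by rw [← f.finrank_eq, hWm], hiso'.nd hW₀, hiso'⟩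
      have hmod := CfsgLib.OrthInv.card_modEq_fixed hT (fun W => Good Q W₀ m W) hP
      have hiff : ∀ W, (Good Q W₀ m W ∧ W.map T = W) ↔ (W ≤ C ∧ Iso Q W W₀) := fun W => by
        constructor
        · rintro ⟨⟨hWm, hWn, hWi⟩, hWT⟩
          obtain ⟨j, hj, hjC, -⟩ := hsplit W (fun v hv => hWT ▸ Submodule.mem_map_of_mem hv) hWn hWm
          refine ⟨hjC ?_, hWi⟩
          rcases Nat.eq_zero_or_pos j with h | h
          · exact h
          · have := Nat.le_mul_of_pos_left (per i) h; omega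
        · rintro ⟨hWC, hWi⟩
          refine ⟨⟨hWi.finrank_eq.trans hW₀m, hWi.nd hW₀, hWi⟩, ?_⟩
          ext v
          constructor
          · rintro ⟨u, hu, rfl⟩
            rwa [sub_eq_zero.1 (hWC hu : (T - 1) u = 0)]
          · intro hv
            exact ⟨v, hv, sub_eq_zero.1 (hWC hv : (T - 1) v = 0)⟩
      rw [Nat.card_congr (Equiv.subtypeEquivRight hiff)] at hmod
      refine CfsgLib.OrthInv.not_dvd_card_iso (p := p) hrp hr2 hi hCn (by rw [hCk]; exact hkc) ?_
        ((hmod.dvd_iff dvd_rfl).1 hrΩ)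
      exact exists_iso_in h2 hW₀ hCn (by omega)
    · obtain ⟨W, ⟨hWm, hWn, hWI⟩, hW⟩ := hall T hiso hT (fun h1 => by
        rw [hC, h1, sub_self, LinearMap.ker_zero, finrank_top, hdim] at hCk
        omega)
      obtain ⟨j, hj, -, hjr⟩ := hsplit W hW hWn hWm
      have hle := Submodule.finrank_mono (inf_le_right : W ⊓ C ≤ C)
      have hmodm : m % per i = finrank F ↥(W ⊓ C) % per i := by rw [← hj, Nat.add_mul_mod_self_right]
      rw [Nat.mod_eq_of_lt (show finrank F ↥(W ⊓ C) < per i by omega)] at hmodm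
      have hlt : m % per i < k := by
        rcases lt_or_eq_of_le (show m % per i ≤ k by omega) with h | h
        · exact h
        · exact absurd (h ▸ hmev) hkodd
      refine ⟨?_, hlt, ?_⟩
      · by_contra hlt'
        exact hsmall ⟨by omega, by rwa [Nat.mod_eq_of_lt (by omega : m < per i)] at hlt⟩
      · rcases Nat.eq_zero_or_pos (m % per i) with h0 | h0
        · right
          have hbot : W ⊓ C = ⊥ := Submodule.finrank_eq_zero.1 (by omega)
          have hty := CfsgLib.OrthInv.type_iff hi hord hr2 hrF hiso hT hW hWn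
            (disjoint_iff.2 hbot)
          rw [isPlus_iso hWI, hWm] at hty
          exact hty.trans type_per
        · exact Or.inl h0
  · rintro ⟨hcm, hlt, htype⟩ T hiso hT -
    set C := LinearMap.ker (T - 1) with hC
    set U := LinearMap.range (T - 1) with hU
    have hparts := CfsgLib.OrthInv.nd_parts hrF hT hiso (CfsgLib.LinFix.inv_top T)
      (CfsgLib.OrthInv.nd_top hQ)
    have hCn : Nd Q C := by simpa [hC] using hparts.1
    have hUn : Nd Q U := by simpa [hU] using hparts.2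
    have hUdis : Disjoint U C := (CfsgLib.OrthInv.disjoint_fix_range hrF hT).symm
    obtain ⟨N, hN⟩ := CfsgLib.OrthInv.per_dvd hi hord hr2 hrF hiso hT (CfsgLib.OrthInv.inv_range T)
      hUn hUdis
    have hCU : finrank F C + finrank F U = 2 * d + 1 := by
      have := CfsgLib.OrthInv.finrank_split hrF hT (W := ⊤) (CfsgLib.LinFix.inv_top T)
      rw [top_inf_eq, top_inf_eq, finrank_top, hdim] at this
      exact this
    have hCmod : finrank F C % per i = (2 * d + 1) % per i := by
      rw [← hCU, hN, Nat.add_mul_mod_self_left]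
    have hfC : ∀ E ≤ C, Inv T E := fun E hE v hv => by
      rw [sub_eq_zero.1 (hE hv : (T - 1) v = 0)]
      exact hv
    set j := min N (m / per i) with hj
    obtain ⟨WU, hWUle, hWUinv, hWUn, hWUdim⟩ := CfsgLib.OrthInv.exists_sub hi hord hr2 hrF hiso hT j
      (CfsgLib.OrthInv.inv_range T) hUn hUdis
      (by rw [hN, mul_comm]; exact Nat.mul_le_mul_left _ (Nat.min_le_left _ _))
    have hdm := Nat.div_add_mod m (per i)
    rw [mul_comm] at hdm
    have horth : ∀ x ∈ WU, ∀ y ∈ C, QuadraticMap.polar Q x y = 0 := fun x hx y hy => by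
      rw [QuadraticMap.polar_comm, CfsgLib.OrthInv.polar_fix_range hiso hy (hWUle hx)]
    have hCle := Nat.mod_le (finrank F C) (per i)
    rcases Nat.lt_or_ge N (m / per i) with hNlt | hNge
    · rw [hj, min_eq_left hNlt.le] at hWUdim
      have h1 : N * per i + per i ≤ m / per i * per i := by
        rw [← Nat.succ_mul]; exact Nat.mul_le_mul_right _ hNlt
      have h2' : N * per i = finrank F U := by rw [hN, mul_comm]
      exact exists_good_sup h2 hWUn hWUinv hCn hfC (hUdis.mono_left hWUle) horth hW₀ hW₀m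
        (by omega) (by omega)
    · rw [hj, min_eq_right hNge] at hWUdim
      rcases Nat.eq_zero_or_pos (m % per i) with h0 | h0
      · have hWm : finrank F WU = m := by omega
        have hdisW : Disjoint WU (LinearMap.ker (T - 1)) := hUdis.mono_left hWUle
        have hty := CfsgLib.OrthInv.type_iff hi hord hr2 hrF hiso hT hWUinv hWUn hdisW
        rw [hWm] at hty
        have hτ := (htype.resolve_left (by omega))
        have hsame : IsPlus (Q.comp WU.subtype) ↔ IsPlus (Q.comp W₀.subtype) :=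
          (hty.trans type_per).trans hτ.symm
        obtain ⟨f, hf⟩ := CfsgLib.RootCount.exists_isometry_even (Q.comp WU.subtype) (Q.comp W₀.subtype)
          (CfsgLib.OrthInv.ndPolar_comp hWUn) (CfsgLib.OrthInv.ndPolar_comp hW₀) (m := mh)
          (by rw [hWm]; omega) (by rw [hW₀m]; omega) hsame
        exact ⟨WU, ⟨hWm, hWUn, f, fun w => hf w⟩, hWUinv⟩
      · exact exists_good_sup h2 hWUn hWUinv hCn hfC (hUdis.mono_left hWUle) horth hW₀ hW₀m
          (by omega) (by omega)

/-- Involutions of determinant one fix subspaces of every class. -/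
theorem involution_fixes (h2 : (2 : F) ≠ 0) (hQ : NDPolar Q) {d m : ℕ}
    (hdim : finrank F V = 2 * d + 1) (hm0 : 0 < m) (hmd : m ≤ 2 * d) {W₀ : Submodule F V}
    (hW₀ : Nd Q W₀) (hW₀m : finrank F W₀ = m) {T : Module.End F V} (hiso : ∀ v, Q (T v) = Q v)
    (hT : ∀ v, T (T v) = v) (hdet : LinearMap.det T = 1) (hne : T ≠ 1) :
    ∃ W, Good Q W₀ m W ∧ Inv T W := by
  set P := LinearMap.ker (T - 1) with hP
  set M := LinearMap.ker (T + LinearMap.id) with hM
  have hPm : ∀ v ∈ P, T v = v := fun v hv => sub_eq_zero.1 (hv : (T - 1) v = 0)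
  have hMm : ∀ v ∈ M, T v = -v := fun v hv => eq_neg_of_add_eq_zero_left (LinearMap.mem_ker.1 hv)
  have hdec : ∀ v, ∃ a ∈ P, ∃ b ∈ M, a + b = v := fun v =>
    ⟨(2 : F)⁻¹ • (v + T v), by
      show (T - 1) ((2 : F)⁻¹ • (v + T v)) = 0
      rw [LinearMap.sub_apply, Module.End.one_apply, map_smul, map_add, hT, add_comm, sub_self],
    (2 : F)⁻¹ • (v - T v), by
      refine LinearMap.mem_ker.2 ?_
      rw [LinearMap.add_apply, LinearMap.id_apply, map_smul, map_sub, hT, ← smul_add]
      simp,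
    by rw [← smul_add, show v + T v + (v - T v) = (2 : F) • v by rw [two_smul]; abel, smul_smul,
      inv_mul_cancel₀ h2, one_smul]⟩
  have horth : ∀ x ∈ P, ∀ y ∈ M, QuadraticMap.polar Q x y = 0 := fun x hx y hy => by
    have h := CfsgLib.OrthInv.polar_map_eq hiso x y
    rw [hPm x hx, hMm y hy, QuadraticMap.polar_neg_right] at h
    exact (mul_eq_zero.1 (by linear_combination -h : (2 : F) * QuadraticMap.polar Q x y = 0)).resolve_left h2
  have hPn : Nd Q P := fun x hx h => hQ x fun v => by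
    obtain ⟨a, ha, b, hb, rfl⟩ := hdec v
    rw [QuadraticMap.polar_add_right, h a ha, horth x hx b hb, add_zero]
  have hMn : Nd Q M := fun x hx h => hQ x fun v => by
    obtain ⟨a, ha, b, hb, rfl⟩ := hdec v
    rw [QuadraticMap.polar_add_right, h b hb, QuadraticMap.polar_comm, horth a ha x hx, add_zero]
  have hdis : Disjoint P M := Submodule.disjoint_def.2 fun x hx hx' => by
    have := (hPm x hx).symm.trans (hMm x hx')
    rw [eq_neg_iff_add_eq_zero, ← two_smul F] at this
    exact (smul_eq_zero.1 this).resolve_left h2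
  have hsum : finrank F P + finrank F M = 2 * d + 1 := by
    have htop : P ⊔ M = ⊤ := eq_top_iff.2 fun v _ => by
      obtain ⟨a, ha, b, hb, rfl⟩ := hdec v
      exact Submodule.add_mem_sup ha hb
    rw [← CfsgLib.LinFix.finrank_sup_of_disjoint hdis, ← hdim, htop, finrank_top]
  obtain ⟨b, hb⟩ : Even (finrank F M) := CfsgLib.LinFix.OrthCompat.even_finrank_neg h2 hT hdet
  have hM0 : 0 < finrank F M := by
    by_contra h
    have hM' : M = ⊥ := Submodule.finrank_eq_zero.1 (by omega)
    refine hne (LinearMap.ext fun v => ?_)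
    obtain ⟨a, ha, c, hc, rfl⟩ := hdec v
    rw [hM', Submodule.mem_bot] at hc
    rw [hc, add_zero, hPm a ha, Module.End.one_apply]
  have hfM : ∀ E ≤ M, Inv T E := fun E hE v hv => by
    rw [hMm v (hE hv)]; exact E.neg_mem hv
  have hfP : ∀ E ≤ P, Inv T E := fun E hE v hv => by
    rw [hPm v (hE hv)]; exact hv
  rcases Nat.lt_or_ge m (finrank F M) with h | h
  · obtain ⟨E, hE, hI⟩ := exists_iso_in h2 hW₀ hMn (by omega)
    exact ⟨E, ⟨hI.finrank_eq.trans hW₀m, hI.nd hW₀, hI⟩, hfM E hE⟩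
  · obtain ⟨E₁, hE₁le, hE₁d, hE₁n⟩ : ∃ E ≤ P, finrank F E = m + 1 - finrank F M ∧ Nd Q E := by
      rcases lt_or_eq_of_le (show m + 1 - finrank F M ≤ finrank F P by omega) with h' | h'
      · obtain ⟨E, hE, hEd, hEn, -⟩ := exists_sub_disc h2 Q (W := P) hPn (by omega) h' (a := 1) one_ne_zero
        exact ⟨E, hE, hEd, hEn⟩
      · exact ⟨P, le_rfl, h'.symm, hPn⟩
    exact exists_good_sup h2 hE₁n (hfP E₁ hE₁le) hMn hfM (hdis.mono_left hE₁le)
      (fun x hx y hy => horth x (hE₁le hx) y hy) hW₀ hW₀m (by omega) (by omega)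

end abstract

section geo

variable {F : Type*} [Field F] [Fintype F] {ι : Type} [Fintype ι] [DecidableEq ι]

omit [Fintype F] [Fintype ι] [DecidableEq ι] in
theorem geo_plus_iff (Q : QuadraticForm F (ι → F)) (W : Submodule F (ι → F)) :
    Cfsg.Geo.IsPlusTypeOn ⇑Q W ↔ IsPlus (Q.comp W.subtype) := by
  constructor
  · rintro ⟨U, hUW, hU, hUd⟩
    exact ⟨U.comap W.subtype, fun x hx => hU x hx, by
      rw [(Submodule.comapSubtypeEquivOfLe hUW).finrank_eq, hUd]⟩
  · rintro ⟨X, hX, hXd⟩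
    exact ⟨X.map W.subtype, Submodule.map_subtype_le _ _,
      by rintro _ ⟨x, hx, rfl⟩; exact hX x hx, by rw [Submodule.finrank_map_subtype_eq, hXd]⟩

/-- A representative of each class of even dimension. -/
theorem exists_class (h2 : (2 : F) ≠ 0) (Q : QuadraticForm F (ι → F))
    (hnd : (QuadraticMap.polarBilin Q).Nondegenerate) {m : ℕ} (hm : Even m) (hm0 : 0 < m)
    (hmn : m < Fintype.card ι) (τ : Prop) :
    ∃ W₀ : Submodule F (ι → F), Nd Q W₀ ∧ finrank F W₀ = m ∧ (IsPlus (Q.comp W₀.subtype) ↔ τ) ∧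
      ∀ W : Submodule F (ι → F), Good Q W₀ m W ↔
        (finrank F W = m ∧ Cfsg.Geo.IsNondegenerateOn (QuadraticMap.polar ⇑Q) W ∧
          (Cfsg.Geo.IsPlusTypeOn ⇑Q W ↔ τ)) := by
  classical
  obtain ⟨k, hk⟩ := hm
  obtain ⟨ν, hν⟩ := FiniteField.exists_nonsquare (F := F) (fun h => h2 (by
    have : CharP F 2 := ringChar.of_eq h
    exact CharTwo.two_eq_zero))
  have hν0 : ν ≠ 0 := by rintro rfl; exact hν ⟨0, by simp⟩
  let a : F := if τ then (-1) ^ k else (-1) ^ k * ν
  have ha : a ≠ 0 := by show (if _ then _ else _ : F) ≠ 0; split_ifs <;> simp [hν0]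
  obtain ⟨W₀, -, hW₀d, hW₀n, hsq⟩ := exists_sub_disc h2 Q (W := ⊤) (ndSub_top hnd) hm0
    (by rw [finrank_top, Module.finrank_fintype_fun_eq_card]; exact hmn) ha
  have hτ : Cfsg.Geo.IsPlusTypeOn ⇑Q W₀ ↔ τ := by
    rw [isPlusTypeOn_iff h2 Q hW₀n (k := k) (by omega)]
    by_cases hc : τ
    · simp only [a, if_pos hc] at hsq
      simp [hc, hsq]
    · simp only [a, if_neg hc] at hsq
      refine iff_of_false (fun h => hν ?_) hc
      have hne : (-1 : F) ^ k * disc (Q.comp W₀.subtype) ≠ 0 :=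
        mul_ne_zero (by simp) (disc_ne_zero hW₀n.nondegenerate)
      rw [show (-1 : F) ^ k * ν * disc (Q.comp W₀.subtype) =
          ν * ((-1) ^ k * disc (Q.comp W₀.subtype)) by ring,
        FormsDisc.isSquare_mul_iff_of_odd h2 hν0 hne] at hsq
      exact hsq.2 h
  refine ⟨W₀, hW₀n, hW₀d, (geo_plus_iff Q W₀).symm.trans hτ, fun W => ⟨?_, ?_⟩⟩
  · rintro ⟨hd, hn, hI⟩
    exact ⟨hd, geo_of_ndSub Q hn, by rw [geo_plus_iff, isPlus_iso hI, ← geo_plus_iff, hτ]⟩
  · rintro ⟨hd, hn, hty⟩
    have hWn : NDSub Q W := ndSub_of_geo Q hn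
    refine ⟨hd, hWn, iso_of_disc h2 hWn hW₀n (hd.trans hW₀d.symm) ?_⟩
    have h := hty.trans hτ.symm
    rw [isPlusTypeOn_iff h2 Q hWn (k := k) (by omega), isPlusTypeOn_iff h2 Q hW₀n (k := k) (by omega),
      ← FormsDisc.isSquare_mul_iff_of_odd h2 (mul_ne_zero (by simp) (disc_ne_zero hWn.nondegenerate))
        (mul_ne_zero (by simp) (disc_ne_zero hW₀n.nondegenerate)),
      show (-1 : F) ^ k * disc (Q.comp W.subtype) * ((-1) ^ k * disc (Q.comp W₀.subtype)) =
        disc (Q.comp W.subtype) * disc (Q.comp W₀.subtype) * ((-1) ^ k) ^ 2 by ring,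
      FormsDisc.isSquare_mul_sq_iff (by simp)] at h
    exact h

/-- The passage from linear maps to elements of `Ω`. -/
theorem exists_gl (h2 : (2 : F) ≠ 0) (Q : QuadraticForm F (ι → F))
    (hnd : (QuadraticMap.polarBilin Q).Nondegenerate) (hn : 2 ≤ Fintype.card ι)
    {T : Module.End F (ι → F)} (hiso : ∀ v, Q (T v) = Q v) {r : ℕ} [Fact r.Prime] (hr : Odd r)
    (hT : T ^ r = 1) (hne : T ≠ 1) :
    ∃ x : GL ι F, x ∈ Cfsg.Geo.omegaGL ⇑Q ∧ orderOf x = r ∧ Matrix.toLin' (x : Matrix ι ι F) = T := by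
  obtain ⟨l, hl⟩ : ∃ l, r = l + 1 := ⟨r - 1, by have := (Fact.out : r.Prime).pos; omega⟩
  let x : GL ι F := ⟨LinearMap.toMatrix' T, LinearMap.toMatrix' (T ^ l),
    by rw [← LinearMap.toMatrix'_mul, ← pow_succ', ← hl, hT, LinearMap.toMatrix'_one],
    by rw [← LinearMap.toMatrix'_mul, ← pow_succ, ← hl, hT, LinearMap.toMatrix'_one]⟩
  have hxT : Matrix.toLin' (x : Matrix ι ι F) = T := Matrix.toLin'_toMatrix' T
  have hxr : x ^ r = 1 := by
    apply Units.ext
    apply Matrix.toLin'.injective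
    rw [Units.val_pow_eq_pow_val, Matrix.toLin'_pow, hxT, hT, Units.val_one, Matrix.toLin'_one]
    rfl
  refine ⟨x, mem_omegaGL_of_odd_order h2 Q hnd hn (fun v => ?_) hr hxr,
    orderOf_eq_prime hxr fun h => hne ?_, hxT⟩
  · rw [← Matrix.toLin'_apply, hxT, hiso]
  · rw [← hxT, h, Units.val_one, Matrix.toLin'_one]; rfl

/-- Elements of `Ω` as maps of determinant one. -/
theorem of_mem_omega (h2 : (2 : F) ≠ 0) (Q : QuadraticForm F (ι → F))
    (hnd : (QuadraticMap.polarBilin Q).Nondegenerate) {x : GL ι F}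
    (hx : x ∈ Cfsg.Geo.omegaGL ⇑Q) :
    (∀ v, Q (Matrix.toLin' (x : Matrix ι ι F) v) = Q v) ∧
      LinearMap.det (Matrix.toLin' (x : Matrix ι ι F)) = 1 ∧
      ∀ r, orderOf x = r → 1 < r → Matrix.toLin' (x : Matrix ι ι F) ^ r = 1 ∧
        Matrix.toLin' (x : Matrix ι ι F) ≠ 1 := by
  obtain ⟨g, hg, rfl⟩ := hx
  have hN : NDPolar Q := fun y hy => hnd.1 y hy
  refine ⟨fun v => ?_, ?_, fun r hr hr1 => ⟨?_, fun h => ?_⟩⟩
  · exact g.2 v v
  · rw [LinearMap.det_toLin']
    exact (CfsgLib.OrthCrit.det_eq_one_iff_parity hN h2 g).2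
      (CfsgLib.OrthCrit.parity_of_mem_Omega hN (CfsgLib.OrthCrit.regular_of_two_ne_zero h2) hg)
  · rw [← Matrix.toLin'_pow, ← Units.val_pow_eq_pow_val, ← hr, pow_orderOf_eq_one, Units.val_one,
      Matrix.toLin'_one]
    rfl
  · have : (g : GL ι F) = 1 := Units.ext (Matrix.toLin'.injective (by
      rw [Units.val_one, Matrix.toLin'_one]; exact h))
    rw [Subgroup.subtype_apply, this, orderOf_one] at hr
    omega

end geo

end CfsgLib.OrthDerange
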