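import Mathlib
import Cfsg.Agent.Lib.OrthDerange.Unipotent

/-!
Partition tests giving the congruences modulo four, and the passage from the statements' hypotheses.
-/

set_option autoImplicit false

namespace CfsgLib.OrthDerange

/-- In odd total every admissible dimension is divisible by four. -/
theorem four_dvd_of_nu_odd {p n m : ℕ} (hp : 3 ≤ p) (hn : 3 ≤ n) (hnodd : n % 2 = 1) (hm : m % 2 = 0)
    (H : ∀ μ : Multiset ℕ, (∀ e ∈ μ, 0 < e ∧ e ≤ p) → (∀ e : ℕ, Even e → Even (μ.count e)) →
      μ.sum = n → ∃ ν : Multiset ℕ, ν ≤ μ ∧ ν.sum = m ∧ ∀ e : ℕ, Even e → Even (ν.count e)) :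
    m % 4 = 0 := by
  obtain ⟨j, r, hn', hr⟩ : ∃ j r, n = 4 * j + r ∧ (r = 1 ∨ r = 3) := ⟨n / 4, n % 4, by omega, by omega⟩
  obtain ⟨ν, hν, hνs, hνe⟩ := H (Multiset.replicate (2 * j) 2 + {r})
    (fun e he => by
      rcases Multiset.mem_add.1 he with h | h
      · rw [(Multiset.mem_replicate.1 h).2]; omega
      · rw [Multiset.mem_singleton.1 h]; omega)
    (fun e he => by
      rw [Multiset.count_add, Multiset.count_replicate, Multiset.count_singleton,
        if_neg (fun h : e = r => by obtain ⟨c, hc⟩ := he; omega), add_zero]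
      split_ifs
      · exact even_two_mul _
      · exact Even.zero)
    (by rw [Multiset.sum_add, Multiset.sum_replicate, Multiset.sum_singleton, smul_eq_mul, hn']; ring)
  have hsplit := congrArg Multiset.sum (Multiset.filter_add_not (· = 2) ν)
  rw [Multiset.sum_add, Multiset.filter_eq', Multiset.sum_replicate, smul_eq_mul, hνs] at hsplit
  have hrest : ν.filter (fun e => ¬ e = 2) ≤ {r} := by
    have h := Multiset.filter_le_filter (fun e : ℕ => ¬ e = 2) hν
    rw [Multiset.filter_add, (Multiset.filter_eq_nil (s := Multiset.replicate (2 * j) 2)).2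
      (fun e he h => h (Multiset.mem_replicate.1 he).2), zero_add] at h
    exact h.trans (Multiset.filter_le _ _)
  obtain ⟨c, hc⟩ := hνe 2 even_two
  rcases Multiset.le_singleton.1 hrest with h | h <;> rw [h] at hsplit <;> simp at hsplit <;> omega

/-- In even total divisible by four every admissible dimension is divisible by four. -/
theorem four_dvd_of_nu_even {p n m : ℕ} (hp : 2 ≤ p) (hn : n % 4 = 0)
    (H : ∀ μ : Multiset ℕ, (∀ e ∈ μ, 0 < e ∧ e ≤ p) → (∀ e : ℕ, Even e → Even (μ.count e)) →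
      μ.sum = n → ∃ ν : Multiset ℕ, ν ≤ μ ∧ ν.sum = m ∧ ∀ e : ℕ, Even e → Even (ν.count e)) :
    m % 4 = 0 := by
  obtain ⟨ν, hν, hνs, hνe⟩ := H (Multiset.replicate (n / 2) 2)
    (fun e he => by rw [(Multiset.mem_replicate.1 he).2]; omega)
    (fun e _ => by
      rw [Multiset.count_replicate]
      split_ifs
      · exact ⟨n / 4, by omega⟩
      · exact Even.zero)
    (by rw [Multiset.sum_replicate, smul_eq_mul]; omega)
  have h2 : ∀ e ∈ ν, e = 2 := fun e he => (Multiset.mem_replicate.1 (Multiset.mem_of_le hν he)).2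
  have hrep := Multiset.eq_replicate_card.2 h2
  obtain ⟨c, hc⟩ := hνe 2 even_two
  rw [hrep, Multiset.count_replicate, if_pos rfl] at hc
  rw [hrep, Multiset.sum_replicate, smul_eq_mul] at hνs
  omega

/-- The hypothesis of the elusive statements, unpacked. -/
theorem unpack {F : Type*} [Field F] {ι : Type} [Fintype ι] [DecidableEq ι]
    (Q : QuadraticForm F (ι → F)) {x : GL ι F} {m : ℕ} {P : Submodule F (ι → F) → Prop}
    (h : ∃ W : Submodule F (ι → F), (Module.finrank F ↥W = m ∧
      Cfsg.Geo.IsNondegenerateOn (QuadraticMap.polar ⇑Q) W ∧ P W) ∧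
      W.map (Matrix.toLin' (x : Matrix ι ι F)) ≤ W) :
    ∃ W : Submodule F (ι → F), (Module.finrank F ↥W = m ∧ NDSub Q W ∧
      LinFix.Inv (Matrix.toLin' (x : Matrix ι ι F)) W) ∧ P W := by
  obtain ⟨W, ⟨hd, hn, hP⟩, hi⟩ := h
  exact ⟨W, ⟨hd, ndSub_of_geo Q hn, fun v hv => hi ⟨v, hv, rfl⟩⟩, hP⟩

/-- An element of prime order satisfies the projective hypothesis. -/
theorem exists_scalar_pow {F : Type*} [Field F] {ι : Type} [Fintype ι] [DecidableEq ι] {x : GL ι F}
    {r : ℕ} (h : orderOf x = r) :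
    ∃ z : F, ((x ^ r : GL ι F) : Matrix ι ι F) = z • (1 : Matrix ι ι F) :=
  ⟨1, by rw [← h, pow_orderOf_eq_one, one_smul]; rfl⟩

end CfsgLib.OrthDerange
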